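import Mathlib
import Cfsg.Agent.OddTab.Base
import Cfsg.Agent.OddHalf.LongSL.Rk
import Cfsg.Agent.SignalizersComponents.SLQuasisimple
import Cfsg.Agent.SigTab.RestList_m3
import Cfsg.Agent.OddHalf.LongSL.Tw_m3
import Cfsg.Agent.FastGrp
import Cfsg.Agent.Prune
set_option linter.all false

section
prune_inst 0x7f00000000000000000000000000000000000000000000000000000000000000000000000000000000000000000000000000000000000000000000000000000000000000000000000000000000000000003fffffffffffffffffffffffffffbeffbdffffffff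

-- part: OddTab/Long
section
set_option linter.all false
open scoped Cfsg.Agent.FastGrp

/-!
# The component `SL₂(q)` of an involution centralizer: groups of Lie type in odd characteristic (helper35)

* `isPGroup_center_SL` : `Z(SL₂(F))` is a 2-group; `inBTwo_SL` : `SL₂(q)`, `q > 3` odd, is a `B₂`-group;
* `comp_of_hasLong` : `HasLong q X`, `q > 3`: an involution `j` and a component `J ≅ SL₂(q)` of `C(j)` with `j ∈ J`;
* `lpExists_of_hasLong` : `LpExists 2 X P` if `P` holds for `SL₂(q)`;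
* `btwo_of_rk` and the rows `psl4`, `psu4`, `psp4`, `g2` of `SevenCases.BRows`.
-/

set_option autoImplicit false

namespace Cfsg.Agent.OddTab

open Subgroup Cfsg
open Cfsg.Agent.OddHalf.LongSL Cfsg.Agent.OddHalf.LieOddFam
open Cfsg.Agent.SignalizersComponents.Components
open scoped MatrixGroups

universe u v

/-- `Z(SL₂(F))` is a 2-group. -/
theorem isPGroup_center_SL (F : Type*) [Field F] : IsPGroup 2 ↥(center (Matrix.SpecialLinearGroup (Fin 2) F)) := by
  rintro ⟨z, hz⟩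
  refine ⟨1, ?_⟩
  obtain ⟨r, hr, hrz⟩ := Matrix.SpecialLinearGroup.mem_center_iff.1 hz
  apply Subtype.ext
  apply Subtype.ext
  change ((z : Matrix (Fin 2) (Fin 2) F)) ^ (2 ^ 1) = 1
  rw [← hrz, ← map_pow]
  simp only [Fintype.card_fin] at hr
  rw [pow_one, hr, map_one]

theorem four_le_natCard {F : Type*} [Field F] [Fintype F] (h3 : 3 < Fintype.card F) : 4 ≤ Nat.card F := by
  rw [Nat.card_eq_fintype_card]
  omega

/-- `SL₂(q)`, `q > 3` odd, is a `B₂`-group. -/
theorem inBTwo_SL {K : Type u} [Group K] {F : Type} [Field F] [Fintype F] (ho : Odd (Fintype.card F))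
    (h3 : 3 < Fintype.card F) (e : K ≃* Matrix.SpecialLinearGroup (Fin 2) F) : InBTwo K :=
  ⟨isQuasisimple_of_mulEquiv e.symm (SignalizersComponents.SLQuasisimple.isQuasisimple_two (four_le_natCard h3)),
    Or.inl ⟨F, inferInstance, inferInstance, ho, h3, ⟨e⟩⟩⟩

/-- The component `SL₂(q)` of `C(j)`. -/
theorem comp_of_hasLong {X : Type u} [Group X] {q : ℕ} (h : HasLong q X) (hq : 3 < q) :
    ∃ (j : X) (J : Subgroup X), orderOf j = 2 ∧ j ∈ J ∧ IsComponentOf J (centralizer ({j} : Set X)) ∧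
      ∃ (F : Type) (_ : Field F) (_ : Fintype F), Fintype.card F = q ∧ Odd q ∧
        Nonempty (↥J ≃* Matrix.SpecialLinearGroup (Fin 2) F) := by
  obtain ⟨j, J, h1, h2, h3, h4, F, i1, i2, h5, h6, ⟨e⟩⟩ := h
  refine ⟨j, J, h1, h2, ⟨h3, h4, ?_⟩, F, i1, i2, h5, h6, ⟨e⟩⟩
  exact isQuasisimple_of_mulEquiv ((subgroupOfEquivOfLe h3).trans e).symm
    (SignalizersComponents.SLQuasisimple.isQuasisimple_two (four_le_natCard (h5 ▸ hq)))

theorem not_coprime_of_mem {X : Type*} [Group X] [Finite X] {j : X} {J : Subgroup X} (h1 : orderOf j = 2) (h2 : j ∈ J) :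
    ¬ (Nat.card ↥J).Coprime 2 := by
  have h3 : orderOf (⟨j, h2⟩ : ↥J) = 2 := by rw [← h1]; exact (Subgroup.orderOf_mk j h2)
  have h4 : 2 ∣ Nat.card ↥J := h3 ▸ orderOf_dvd_natCard _
  intro h
  exact absurd (Nat.Coprime.eq_one_of_dvd (h.symm) h4) (by norm_num)

/-- An element `SL₂(q)` of `L₂(X)`. -/
theorem lpExists_of_hasLong {X : Type u} [Group X] [Finite X] {q : ℕ} (h : HasLong q X) (hq : 3 < q)
    {P : ∀ (K : Type u) [Group K], Prop} (hP : ∀ (A B : Type u) [Group A] [Group B], (A ≃* B) → P A → P B)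
    (hSL : ∀ (K : Type u) [Group K] (F : Type) [Field F] [Fintype F], Fintype.card F = q → Odd q →
      (K ≃* Matrix.SpecialLinearGroup (Fin 2) F) → P K) : LpExists 2 X P := by
  obtain ⟨j, J, h1, h2, h3, F, i1, i2, h5, h6, ⟨e⟩⟩ := comp_of_hasLong h hq
  have : Fact (Nat.Prime 2) := ⟨Nat.prime_two⟩
  exact lpExists_of_comp_self h1 h3 (not_coprime_of_mem h1 h2)
    ((isPGroup_center_SL F).of_equiv (CpQuot.Congr.ce e).symm) hP (hSL _ F h5 h6 e)

/-- `L₂(X)` is not contained in a class not containing `SL₂(q)`. -/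
theorem not_lpAll_of_hasLong {X : Type u} [Group X] [Finite X] {q : ℕ} (h : HasLong q X) (hq : 3 < q)
    {P : ∀ (K : Type u) [Group K], Prop} (hP : ∀ (A B : Type u) [Group A] [Group B], (A ≃* B) → P A → P B)
    (hSL : ∀ (K : Type u) [Group K] (F : Type) [Field F] [Fintype F], Fintype.card F = q → Odd q →
      (K ≃* Matrix.SpecialLinearGroup (Fin 2) F) → ¬ P K) : ¬ LpAll 2 X P := by
  obtain ⟨j, J, h1, h2, h3, F, i1, i2, h5, h6, ⟨e⟩⟩ := comp_of_hasLong h hq
  have : Fact (Nat.Prime 2) := ⟨Nat.prime_two⟩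
  refine not_lpAll_of_comp h1 h3 (not_coprime_of_mem h1 h2) hP fun hJ => ?_
  refine hSL _ F h5 h6 e (hP _ _ (quoCoreEquiv ?_).symm hJ)
  exact pPrimeCore_eq_bot_of_quasisimple (isQuasisimple_of_isComponentOf h3) (not_coprime_of_mem h1 h2)
    ((isPGroup_center_SL F).of_equiv (CpQuot.Congr.ce e).symm)

/-- a `B₂`-group in `L₂(X)` -/
theorem btwo_of_hasLong {X : Type u} [Group X] [Finite X] {q : ℕ} (h : HasLong q X) (hq : 3 < q) :
    LpExists 2 X InBTwo :=
  lpExists_of_hasLong h hq (fun _ _ _ _ e => (inBTwo_iff e).1)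
    fun K _ F _ _ h5 h6 e => inBTwo_SL (by rw [h5]; exact h6) (by rw [h5]; exact hq) e

/-! ### The groups of Lie type -/

theorem oddPow_of_field {F : Type} [Field F] [Fintype F] (ho : Odd (Fintype.card F)) : OddPow (Fintype.card F) := by
  obtain ⟨p, hc⟩ := CharP.exists F
  have hp : p.Prime := (CharP.char_is_prime_or_zero F p).resolve_right (CharP.char_ne_zero_of_finite F p)
  refine oddPow_card hp ?_
  rintro rfl
  exact two_ne_of_odd ho (by exact_mod_cast CharP.cast_eq_zero F 2)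

theorem oddPow_of_field_pow {F : Type} [Field F] [Fintype F] {q k : ℕ} (hk : k ≠ 0) (hF : Fintype.card F = q ^ k)
    (ho : Odd q) : OddPow q := by
  obtain ⟨p, a, hp, h2, ha, h⟩ := oddPow_of_field (F := F) (by rw [hF]; exact ho.pow)
  exact oddPow_root hp h2 hk ha (hF.symm.trans h)

/-- a `B₂`-group in `L₂(X)`, `X` of Lie type of rank at least 2 over the field with `q > 3` elements, `q` odd -/
theorem btwo_of_rk {X : Type u} [Group X] [Finite X] {q : ℕ} (hq : OddPow q) (h3 : 3 < q) (h : Rk X q) :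
    LpExists 2 X InBTwo := btwo_of_hasLong (hasLong_of_rk hq h) h3

namespace Rows

open Cfsg.Agent.SevenCases

theorem psl4 : BTwo.{u} (fun X _ => PslOdd (fun n q => n = 4 ∧ 3 < q) X) := by
  rintro G _ _ ⟨F, i1, i2, n, ho, ⟨rfl, h3⟩, e⟩
  exact btwo_of_rk (oddPow_of_field ho) h3 (Or.inl ⟨F, i1, i2, 4, rfl, by norm_num, e⟩)

theorem psu4 : BTwo.{u} (fun X _ => PsuOdd (fun n q => n = 4 ∧ 3 < q) X) := by
  rintro G _ _ ⟨F, i1, i2, n, q, ho, hF, ⟨rfl, h3⟩, e⟩
  exact btwo_of_rk (oddPow_of_field_pow two_ne_zero hF ho) h3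
    (Or.inr (Or.inr (Or.inl ⟨F, i1, i2, 4, hF, by norm_num, e⟩)))

theorem psp4 : BTwo.{u} (fun X _ => PspOdd (fun m q => m = 2 ∧ 3 < q) X) := by
  rintro G _ _ ⟨F, i1, i2, m, ho, ⟨rfl, h3⟩, e⟩
  exact btwo_of_rk (oddPow_of_field ho) h3 (Or.inr (Or.inl ⟨F, i1, i2, 2, rfl, le_rfl, e⟩))

theorem g2 : BTwo.{u} (fun X _ => GTwoOdd (fun q => 3 < q) X) := by
  rintro G _ _ ⟨F, i1, i2, ho, h3, e⟩
  exact btwo_of_rk (oddPow_of_field ho) h3
    (Or.inr (Or.inr (Or.inr (Or.inr (Or.inr (Or.inr (Or.inl ⟨F, i1, i2, rfl, e⟩)))))))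

end Rows

end Cfsg.Agent.OddTab
end

-- part: OddTab/D4Short
section
set_option linter.all false
open scoped Cfsg.Agent.FastGrp

/-!
# The short root `SL₂(q³)` of `³D₄(q)`, `q` odd (helper35)

* `hasLong` : `HasLong (q ^ 3) (³D₄(q))`: an involution `j` and `J ≅ SL₂(q³)` subnormal in `C(j)` with `j ∈ J`;
* `Rows.d4` : the row `BRows.d4`.
-/

set_option autoImplicit false
set_option linter.unusedSectionVars false

namespace Cfsg.Agent.OddTab.D4Short

open Cfsg Cfsg.Lie Cfsg.Agent.ChevalleyStructure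
open CoxeterSystem Cfsg.Agent.ChevalleyStructure.CoxeterGeom Cfsg.Agent.Tits.Roots Cfsg.Agent.Tits.Core
  Cfsg.Agent.Nodes.BNOf Cfsg.Agent.Nodes.RGDTwGen Cfsg.Agent.Nodes.RGDChev Cfsg.Agent.Nodes.RGDFold
open Cfsg.Agent.ChevalleyStructure.TwistedU Cfsg.Agent.ChevalleyStructure.TwistedFix
open Cfsg.Agent.OddHalf.LongSL Cfsg.Agent.OddHalf.LongSL.Chev Cfsg.Agent.OddHalf.LongSL.Fold
open Cfsg.Agent.Nodes.RGDTwD4 (J L A hp foldData foldGrp isCartan cls1 cls1' R1 R1' xG_eq)

theorem simples : chevD4.simple ((0 : Fin 4) : ℕ) = 18 ∧ chevD4.simple ((2 : Fin 4) : ℕ) = 13 ∧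
    chevD4.simple ((3 : Fin 4) : ℕ) = 12 ∧ chevD4.neg 18 = 5 ∧ chevD4.neg 13 = 10 ∧ chevD4.neg 12 = 11 := by
  decide +kernel

/-- the sum of the Cartan integers -/
def cs3 (s : ℕ) : ℤ := chevD4.cartan 0 s + chevD4.cartan 2 s + chevD4.cartan 3 s

theorem chk3 : ∀ s < chevD4.nroots, V chevD4 J s = sr 1 ∨ V chevD4 J s = -sr 1 ∨
    (cs3 s % 2 = 1 ∨
    (cs3 s % 2 = 0 ∧ chevD4.commTerms 18 s = [] ∧ chevD4.commTerms 13 s = [] ∧ chevD4.commTerms 12 s = [] ∧
      chevD4.commTerms 5 s = [] ∧ chevD4.commTerms 10 s = [] ∧ chevD4.commTerms 11 s = [])) := by decide +kernel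

theorem chk3' : ∀ s < chevD4.nroots, ∀ s' < chevD4.nroots, ¬ (V chevD4 J s = V chevD4 J s') ∨ s = s' ∨
    (s' ≠ chevD4.neg s ∧ chevD4.commTerms s s' = [] ∧ (cs3 s % 2 = cs3 s' % 2)) := by decide +kernel

theorem chkP : chevD4.commTerms 18 13 = [] ∧ chevD4.commTerms 18 12 = [] ∧ chevD4.commTerms 13 12 = [] ∧
    chevD4.commTerms 18 10 = [] ∧ chevD4.commTerms 18 11 = [] ∧ chevD4.commTerms 13 11 = [] ∧
    chevD4.commTerms 5 13 = [] ∧ chevD4.commTerms 5 12 = [] ∧ chevD4.commTerms 10 12 = [] ∧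
    chevD4.commTerms 5 10 = [] ∧ chevD4.commTerms 5 11 = [] ∧ chevD4.commTerms 10 11 = [] := by decide +kernel

theorem comm_three {Y : Type*} [Group Y] {a b c u : Y} (h1 : a * u = u * a) (h2 : b * u = u * b)
    (h3 : c * u = u * c) : u * (a * b * c) = a * b * c * u := by
  calc u * (a * b * c) = (u * a) * b * c := by group
    _ = a * (u * b) * c := by rw [← h1]; group
    _ = a * b * (u * c) := by rw [← h2]; group
    _ = a * b * c * u := by rw [← h3]; group

section

variable {K : Type} [Field K]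

/-- `SL₂(K)` at the node `j` -/
noncomputable def ph (j : Fin 4) : Matrix.SpecialLinearGroup (Fin 2) K →* GL chevD4.Idx K :=
  SL2Hom.phi (goodS hp j) K

theorem ph_up (j : Fin 4) (t : K) : ph j (SL2Hom.up t) = Elts.xG hp.inList (chevD4.simple j) t :=
  Units.ext (SL2Hom.phi_upper _ _ _ rfl)

theorem ph_lo (j : Fin 4) (t : K) : ph j (SL2Hom.lo t) = Elts.xG hp.inList (chevD4.neg (chevD4.simple j)) t :=
  Units.ext (SL2Hom.phi_lower _ _ _ rfl)

theorem comm_x {r s : ℕ} (hr : r < 24) (hs : s < 24) (hrs : s ≠ r) (hneg : s ≠ chevD4.neg r)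
    (hnil : chevD4.commTerms r s = []) (t u : K) :
    Elts.xG hp.inList s u * Elts.xG hp.inList r t = Elts.xG hp.inList r t * Elts.xG hp.inList s u :=
  commute_xG hp K hr hs hrs hneg hnil t u

theorem ph0_up (t : K) : ph 0 (SL2Hom.up t) = Elts.xG hp.inList 18 t := by rw [ph_up, simples.1]
theorem ph2_up (t : K) : ph 2 (SL2Hom.up t) = Elts.xG hp.inList 13 t := by rw [ph_up, simples.2.1]
theorem ph3_up (t : K) : ph 3 (SL2Hom.up t) = Elts.xG hp.inList 12 t := by rw [ph_up, simples.2.2.1]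
theorem ph0_lo (t : K) : ph 0 (SL2Hom.lo t) = Elts.xG hp.inList 5 t := by
  rw [ph_lo, simples.1, simples.2.2.2.1]
theorem ph2_lo (t : K) : ph 2 (SL2Hom.lo t) = Elts.xG hp.inList 10 t := by
  rw [ph_lo, simples.2.1, simples.2.2.2.2.1]
theorem ph3_lo (t : K) : ph 3 (SL2Hom.lo t) = Elts.xG hp.inList 11 t := by
  rw [ph_lo, simples.2.2.1, simples.2.2.2.2.2]

/-- two homomorphisms from `SL₂` commute if the images of the unitriangular elements do -/
theorem comm_ranges {Y : Type*} [Group Y] (f g : Matrix.SpecialLinearGroup (Fin 2) K →* Y)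
    (h1 : ∀ s t, g (SL2Hom.up s) * f (SL2Hom.up t) = f (SL2Hom.up t) * g (SL2Hom.up s))
    (h2 : ∀ s t, g (SL2Hom.up s) * f (SL2Hom.lo t) = f (SL2Hom.lo t) * g (SL2Hom.up s))
    (h3 : ∀ s t, g (SL2Hom.lo s) * f (SL2Hom.up t) = f (SL2Hom.up t) * g (SL2Hom.lo s))
    (h4 : ∀ s t, g (SL2Hom.lo s) * f (SL2Hom.lo t) = f (SL2Hom.lo t) * g (SL2Hom.lo s))
    (a b : Matrix.SpecialLinearGroup (Fin 2) K) : g b * f a = f a * g b := by
  have h5 : ∀ s, ∀ v ∈ f.range, g (SL2Hom.up s) * v = v * g (SL2Hom.up s) := fun s =>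
    commute_range f (h1 s) (h2 s)
  have h6 : ∀ s, ∀ v ∈ f.range, g (SL2Hom.lo s) * v = v * g (SL2Hom.lo s) := fun s =>
    commute_range f (h3 s) (h4 s)
  have h7 := commute_range g (u := f a) (fun t => (h5 t _ ⟨a, rfl⟩).symm) (fun t => (h6 t _ ⟨a, rfl⟩).symm)
  exact (h7 _ ⟨b, rfl⟩).symm

theorem c02 (a b : Matrix.SpecialLinearGroup (Fin 2) K) : ph 2 b * ph 0 a = ph 0 a * ph 2 b := by
  refine comm_ranges _ _ ?_ ?_ ?_ ?_ a b <;> intro s t
  · rw [ph0_up, ph2_up]
    exact comm_x (by norm_num) (by norm_num) (by norm_num) (by decide +kernel) chkP.1 _ _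
  · rw [ph0_lo, ph2_up]
    exact comm_x (by norm_num) (by norm_num) (by norm_num) (by decide +kernel) (by decide +kernel) _ _
  · rw [ph0_up, ph2_lo]
    exact comm_x (by norm_num) (by norm_num) (by norm_num) (by decide +kernel) (by decide +kernel) _ _
  · rw [ph0_lo, ph2_lo]
    exact comm_x (by norm_num) (by norm_num) (by norm_num) (by decide +kernel) (by decide +kernel) _ _

theorem c03 (a b : Matrix.SpecialLinearGroup (Fin 2) K) : ph 3 b * ph 0 a = ph 0 a * ph 3 b := by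
  refine comm_ranges _ _ ?_ ?_ ?_ ?_ a b <;> intro s t
  · rw [ph0_up, ph3_up]
    exact comm_x (by norm_num) (by norm_num) (by norm_num) (by decide +kernel) (by decide +kernel) _ _
  · rw [ph0_lo, ph3_up]
    exact comm_x (by norm_num) (by norm_num) (by norm_num) (by decide +kernel) (by decide +kernel) _ _
  · rw [ph0_up, ph3_lo]
    exact comm_x (by norm_num) (by norm_num) (by norm_num) (by decide +kernel) (by decide +kernel) _ _
  · rw [ph0_lo, ph3_lo]
    exact comm_x (by norm_num) (by norm_num) (by norm_num) (by decide +kernel) (by decide +kernel) _ _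

theorem c23 (a b : Matrix.SpecialLinearGroup (Fin 2) K) : ph 3 b * ph 2 a = ph 2 a * ph 3 b := by
  refine comm_ranges _ _ ?_ ?_ ?_ ?_ a b <;> intro s t
  · rw [ph2_up, ph3_up]
    exact comm_x (by norm_num) (by norm_num) (by norm_num) (by decide +kernel) (by decide +kernel) _ _
  · rw [ph2_lo, ph3_up]
    exact comm_x (by norm_num) (by norm_num) (by norm_num) (by decide +kernel) (by decide +kernel) _ _
  · rw [ph2_up, ph3_lo]
    exact comm_x (by norm_num) (by norm_num) (by norm_num) (by decide +kernel) (by decide +kernel) _ _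
  · rw [ph2_lo, ph3_lo]
    exact comm_x (by norm_num) (by norm_num) (by norm_num) (by decide +kernel) (by decide +kernel) _ _

variable (φ : K →+* K)

/-- the diagonal `SL₂(K)` -/
noncomputable def psi : Matrix.SpecialLinearGroup (Fin 2) K →* GL chevD4.Idx K :=
  MonoidHom.mk' (fun g => ph 0 g * ph 2 (Matrix.SpecialLinearGroup.map φ g) *
    ph 3 (Matrix.SpecialLinearGroup.map φ (Matrix.SpecialLinearGroup.map φ g))) (by
    intro g h
    simp only [map_mul]
    have e1 := c02 (K := K) h (Matrix.SpecialLinearGroup.map φ g)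
    have e2 := c03 (K := K) h (Matrix.SpecialLinearGroup.map φ (Matrix.SpecialLinearGroup.map φ g))
    have e3 := c23 (K := K) (Matrix.SpecialLinearGroup.map φ h)
      (Matrix.SpecialLinearGroup.map φ (Matrix.SpecialLinearGroup.map φ g))
    generalize ph 0 g = a, ph 0 h = a', ph 2 (Matrix.SpecialLinearGroup.map φ g) = b,
      ph 2 (Matrix.SpecialLinearGroup.map φ h) = b',
      ph 3 (Matrix.SpecialLinearGroup.map φ (Matrix.SpecialLinearGroup.map φ g)) = c,
      ph 3 (Matrix.SpecialLinearGroup.map φ (Matrix.SpecialLinearGroup.map φ h)) = c' at e1 e2 e3 ⊢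
    calc a * a' * (b * b') * (c * c') = a * (a' * b) * b' * c * c' := by group
      _ = a * b * a' * b' * c * c' := by rw [← e1]; group
      _ = a * b * a' * (b' * c) * c' := by group
      _ = a * b * (a' * c) * b' * c' := by rw [← e3]; group
      _ = a * b * c * (a' * b' * c') := by rw [← e2]; group)

theorem psi_apply (g : Matrix.SpecialLinearGroup (Fin 2) K) : psi φ g =
    ph 0 g * ph 2 (Matrix.SpecialLinearGroup.map φ g) *
      ph 3 (Matrix.SpecialLinearGroup.map φ (Matrix.SpecialLinearGroup.map φ g)) := rfl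

theorem map_up' (t : K) : Matrix.SpecialLinearGroup.map φ (SL2Hom.up t) = SL2Hom.up (φ t) := by
  apply Subtype.ext
  show φ.mapMatrix (SL2Hom.up t).1 = (SL2Hom.up (φ t)).1
  ext i j
  fin_cases i <;> fin_cases j <;> simp [SL2Hom.up]

theorem map_lo' (t : K) : Matrix.SpecialLinearGroup.map φ (SL2Hom.lo t) = SL2Hom.lo (φ t) := by
  apply Subtype.ext
  show φ.mapMatrix (SL2Hom.lo t).1 = (SL2Hom.lo (φ t)).1
  ext i j
  fin_cases i <;> fin_cases j <;> simp [SL2Hom.lo]

theorem map_neg_one' : Matrix.SpecialLinearGroup.map φ (-1 : Matrix.SpecialLinearGroup (Fin 2) K) = -1 := by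
  apply Subtype.ext
  show φ.mapMatrix ((-1 : Matrix.SpecialLinearGroup (Fin 2) K) : Matrix (Fin 2) (Fin 2) K) =
    ((-1 : Matrix.SpecialLinearGroup (Fin 2) K) : Matrix (Fin 2) (Fin 2) K)
  rw [Matrix.SpecialLinearGroup.coe_neg, Matrix.SpecialLinearGroup.coe_one, map_neg, map_one]

theorem psi_up (t : K) : psi φ (SL2Hom.up t) = D4Fixed.X φ t := by
  rw [psi_apply, map_up', map_up', ph0_up, ph2_up, ph3_up, D4Fixed.X, xG_eq, D4U.xU_eq, D4U.xU_eq, D4U.xU_eq]

theorem psi_lo (t : K) : psi φ (SL2Hom.lo t) = D4Fixed.Y φ t := by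
  rw [psi_apply, map_lo', map_lo', ph0_lo, ph2_lo, ph3_lo, D4Fixed.Y, xG_eq, D4U.xU_eq, D4U.xU_eq, D4U.xU_eq]

theorem ph_neg_one (j : Fin 4) : ph (K := K) j (-1) = Elts.hG hp.inList (chevD4.simple j) (-1) := by
  have h := phi_neg_one hp K j
  rw [← h]
  rfl

theorem psi_neg_one : psi φ (-1 : Matrix.SpecialLinearGroup (Fin 2) K) =
    Elts.hG hp.inList (chevD4.simple ((0 : Fin 4) : ℕ)) (-1) * Elts.hG hp.inList (chevD4.simple ((2 : Fin 4) : ℕ)) (-1) *
      Elts.hG hp.inList (chevD4.simple ((3 : Fin 4) : ℕ)) (-1) := by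
  rw [psi_apply, map_neg_one', map_neg_one', ph_neg_one, ph_neg_one, ph_neg_one]

/-- conjugation by `ψ(-1)` -/
theorem conj_psi {s : ℕ} (hs : s < 24) (t : K) : psi φ (-1) * Elts.xG hp.inList s t * (psi φ (-1))⁻¹ =
    Elts.xG hp.inList s ((-1) ^ (cs3 s) * t) := by
  have hm : (-1 : K) ≠ 0 := neg_ne_zero.2 one_ne_zero
  have h0 := fun t => conj_hG hp K (0 : Fin 4) hs (-1) hm t
  have h2 := fun t => conj_hG hp K (2 : Fin 4) hs (-1) hm t
  have h3 := fun t => conj_hG hp K (3 : Fin 4) hs (-1) hm t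
  rw [psi_neg_one]
  have e : Elts.hG hp.inList (chevD4.simple ((0 : Fin 4) : ℕ)) (-1 : K) *
      Elts.hG hp.inList (chevD4.simple ((2 : Fin 4) : ℕ)) (-1) *
      Elts.hG hp.inList (chevD4.simple ((3 : Fin 4) : ℕ)) (-1) * Elts.xG hp.inList s t *
      (Elts.hG hp.inList (chevD4.simple ((0 : Fin 4) : ℕ)) (-1) *
      Elts.hG hp.inList (chevD4.simple ((2 : Fin 4) : ℕ)) (-1) *
      Elts.hG hp.inList (chevD4.simple ((3 : Fin 4) : ℕ)) (-1))⁻¹ =
      Elts.hG hp.inList (chevD4.simple ((0 : Fin 4) : ℕ)) (-1) *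
        (Elts.hG hp.inList (chevD4.simple ((2 : Fin 4) : ℕ)) (-1) *
          (Elts.hG hp.inList (chevD4.simple ((3 : Fin 4) : ℕ)) (-1) * Elts.xG hp.inList s t *
            (Elts.hG hp.inList (chevD4.simple ((3 : Fin 4) : ℕ)) (-1))⁻¹) *
          (Elts.hG hp.inList (chevD4.simple ((2 : Fin 4) : ℕ)) (-1))⁻¹) *
        (Elts.hG hp.inList (chevD4.simple ((0 : Fin 4) : ℕ)) (-1))⁻¹ := by group
  rw [e, h3, h2, h0, ← mul_assoc, ← mul_assoc, ← zpow_add₀ hm, ← zpow_add₀ hm]
  rfl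

theorem psi_mem {q : ℕ} (hφ : ∀ x, φ x = x ^ q) (g : Matrix.SpecialLinearGroup (Fin 2) K) :
    psi φ g ∈ twistedD4 K q := by
  have h1 : g ∈ (twistedD4 K q).comap (psi φ) := by
    refine (Subgroup.closure_le _).2 ?_ (SL2Hom.mem_closure_SL2 g)
    rintro x (⟨t, rfl⟩ | ⟨t, rfl⟩)
    · show psi φ _ ∈ twistedD4 K q
      rw [psi_up]
      exact D4Fixed.X_mem hφ t
    · show psi φ _ ∈ twistedD4 K q
      rw [psi_lo]
      exact D4Fixed.Y_mem hφ t
  exact h1

theorem ph0_injective (h2 : (2 : K) ≠ 0) : Function.Injective (ph (K := K) 0) := by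
  rw [injective_iff_map_eq_one]
  intro g hg
  rcases phi_eq_one _ hg with h | h
  · exact h
  · exfalso
    rw [h] at hg
    have h3 : Elts.hG hp.inList (chevD4.simple ((0 : Fin 4) : ℕ)) (-1 : K) = 1 := by rw [← ph_neg_one, hg]
    have h4 := conj_hG hp K (0 : Fin 4) (s := 14) (by decide +kernel) (-1) (neg_ne_zero.2 one_ne_zero) 1
    have h5 : chevD4.cartan ((0 : Fin 4) : ℕ) 14 = -1 := by decide +kernel
    rw [h3, one_mul, inv_one, mul_one, h5, zpow_neg, zpow_one, inv_neg, inv_one, mul_one] at h4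
    have h6 := Elts.xG_injective hp.inList (by decide +kernel) h4
    apply h2
    linear_combination h6

theorem psi_injective (h2 : (2 : K) ≠ 0) : Function.Injective (psi φ) := by
  rw [injective_iff_map_eq_one]
  intro g hg
  -- `g` is central
  have hcen : ∀ h, g * h = h * g := by
    intro h
    apply ph0_injective h2
    rw [map_mul, map_mul]
    rw [psi_apply] at hg
    have e1 := c02 (K := K) h (Matrix.SpecialLinearGroup.map φ g)
    have e2 := c03 (K := K) h (Matrix.SpecialLinearGroup.map φ (Matrix.SpecialLinearGroup.map φ g))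
    generalize ph 2 (Matrix.SpecialLinearGroup.map φ g) = b,
      ph 3 (Matrix.SpecialLinearGroup.map φ (Matrix.SpecialLinearGroup.map φ g)) = c, ph 0 g = a, ph 0 h = d at *
    have h3 : a = c⁻¹ * b⁻¹ := by
      rw [eq_mul_inv_iff_mul_eq, eq_inv_iff_mul_eq_one]
      exact hg
    have e1' : b⁻¹ * d = d * b⁻¹ := by
      rw [inv_mul_eq_iff_eq_mul, ← mul_assoc, e1, mul_inv_cancel_right]
    have e2' : c⁻¹ * d = d * c⁻¹ := by
      rw [inv_mul_eq_iff_eq_mul, ← mul_assoc, e2, mul_inv_cancel_right]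
    rw [h3, mul_assoc, e1', ← mul_assoc, e2', mul_assoc]
  have hg1 : g = 1 ∨ g = -1 := by
    obtain ⟨r, hr, hrg⟩ := Matrix.SpecialLinearGroup.mem_center_iff.1
      (Subgroup.mem_center_iff.2 fun h => (hcen h).symm)
    rw [Fintype.card_fin] at hr
    rcases sq_eq_one_iff.1 hr with h | h
    · left
      apply Subtype.ext
      rw [← hrg, h, map_one]
      rfl
    · right
      apply Subtype.ext
      rw [← hrg, h, map_neg, map_one]
      rfl
  rcases hg1 with h | h
  · exact h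
  · exfalso
    rw [h] at hg
    have h4 := conj_psi φ (s := 14) (by norm_num) 1
    have h5 : cs3 14 = -3 := by decide +kernel
    rw [hg, one_mul, inv_one, mul_one, h5, mul_one] at h4
    have h6 := Elts.xG_injective hp.inList (by decide +kernel) h4
    apply h2
    have h7 : ((-1 : K) ^ (-3 : ℤ)) = -1 := by
      rw [zpow_neg, show (3 : ℤ) = ((3 : ℕ) : ℤ) by rfl, zpow_natCast, inv_eq_iff_eq_inv]
      norm_num
    rw [h7] at h6
    linear_combination h6

end

theorem conj_neg {K : Type} [Field K] (φ : K →+* K) {s : ℕ} (hs : s < 24) (ho : cs3 s % 2 = 1) (t : K) :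
    psi φ (-1) * Elts.xG hp.inList s t * (psi φ (-1))⁻¹ = (Elts.xG hp.inList s t)⁻¹ := by
  rw [conj_psi φ hs, Elts.xG_inv]
  congr 1
  have h1 : ((-1 : K) ^ (cs3 s)) = -1 := by
    have : Odd (cs3 s) := Int.odd_iff.2 ho
    exact this.neg_one_zpow
  rw [h1, neg_one_mul]

/-- **`HasLong (q³)` for `³D₄(q)`.** -/
theorem hasLong {K : Type} [Field K] [Fintype K] {q : ℕ} (hq : IsPrimePow q) (hK : Fintype.card K = q ^ 3)
    (ho : Odd q) : HasLong (q ^ 3) ↥(twistedD4 K q) := by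
  classical
  obtain ⟨φ, hφ⟩ := D4Fixed.exists_frob hq hK
  obtain ⟨p, hpc⟩ := CharP.exists K
  have hpp : p.Prime := (CharP.char_is_prime_or_zero K p).resolve_right (CharP.char_ne_zero_of_finite K p)
  have : Fact p.Prime := ⟨hpp⟩
  have hKo : Odd (Fintype.card K) := by rw [hK]; exact ho.pow
  have h2K : (2 : K) ≠ 0 := two_ne_of_odd hKo
  have hp2 : Odd p := by
    rcases hpp.eq_two_or_odd' with rfl | h
    · exact absurd (by exact_mod_cast CharP.cast_eq_zero K 2) h2K
    · exact h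
  let cs : CoxeterSystem CoxeterMatrix.G₂ CoxeterMatrix.G₂.Group := CoxeterMatrix.G₂.toCoxeterSystem
  have hle := D4Fixed.twisted_le_fix hK hφ
  have hfin : Finite CoxeterMatrix.G₂.Group := Cfsg.Agent.Nodes.RGDFold.finite_W (hp := hp) cs isCartan foldData
  let ψ : Matrix.SpecialLinearGroup (Fin 2) K →* ↥(twistedD4 K q) :=
    (psi φ).codRestrict (twistedD4 K q) (psi_mem φ hφ)
  have hψ : ∀ g, (ψ g : GL chevD4.Idx K) = psi φ g := fun g => rfl
  have hinj : Function.Injective ψ := fun a b hab => psi_injective φ h2K (congrArg Subtype.val hab)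
  have hjT : ψ (-1) ∈ (chevD4.diagonalSubgroup K ⊓ twistedD4 K q).subgroupOf (twistedD4 K q) := by
    rw [Subgroup.mem_subgroupOf]
    refine ⟨?_, (ψ (-1)).2⟩
    rw [hψ, psi_neg_one]
    exact mul_mem (mul_mem
      (Elts.hG_mem_diagonal hp.inList (NPerm.simple_lt hp.inList (lt_rank hp (0 : Fin 4))) (neg_ne_zero.2 one_ne_zero))
      (Elts.hG_mem_diagonal hp.inList (NPerm.simple_lt hp.inList (lt_rank hp (2 : Fin 4))) (neg_ne_zero.2 one_ne_zero)))
      (Elts.hG_mem_diagonal hp.inList (NPerm.simple_lt hp.inList (lt_rank hp (3 : Fin 4))) (neg_ne_zero.2 one_ne_zero))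
  have hrange : ψ.range = JX (fun z => (R chevD4 hp K J (D4Fixed.sig φ) z).subgroupOf (twistedD4 K q)) (ψ (-1))
      (sr 1) := by
    refine range_eq_JX _ rfl ?_ ?_ ?_ ?_
    · intro t
      rw [Subgroup.mem_subgroupOf, hψ, psi_up, R1]
      exact ⟨D4Twisted.X_mem_RS t, hle (D4Fixed.X_mem hφ t)⟩
    · intro t
      rw [Subgroup.mem_subgroupOf, hψ, psi_lo, R1']
      exact ⟨Hexagon.TwD4RGD.Y_mem_RS t, hle (D4Fixed.Y_mem hφ t)⟩
    · intro u hu _
      rw [Subgroup.mem_subgroupOf, R1] at hu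
      obtain ⟨t, ht⟩ := D4U.RS_outer_fix hu.1 hu.2
      exact ⟨t, Subtype.ext (by rw [hψ, psi_up, ht])⟩
    · intro u hu _
      rw [Subgroup.mem_subgroupOf, R1'] at hu
      obtain ⟨t, ht⟩ := D4Twisted.RS_neg_fix φ hu.1 hu.2
      exact ⟨t, Subtype.ext (by rw [hψ, psi_lo, ht])⟩
  have hkey : HasLong (Fintype.card K) ↥(twistedD4 K q) := by
    refine hasLong_of_rgd (Cfsg.Agent.Nodes.RGDFold.rgd cs isCartan foldData
      (foldGrp hφ hle) p) hp2
      (KFacts.RgdRigid.GG_eq_top (Cfsg.Agent.Nodes.RGDFold.G1_eq_top cs isCartan foldData (foldGrp hφ hle) p))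
      (isRoot_sr cs isCartan 1) hKo ψ hinj rfl hjT hrange ?_
    intro z hz hz1 hz2
    obtain ⟨s₀, hs₀, rfl⟩ := (foldData.isRoot_iff (cs := cs) (h := isCartan) hp.checked
      (fun i r hr => wp_lt hp (J i) hr) z).1 hz
    have hfib : ∀ k < chevD4.nroots, ∀ k' < chevD4.nroots, V chevD4 J k = V chevD4 J k' → k ≠ k' →
        k' ≠ chevD4.neg k ∧ chevD4.commTerms k k' = [] ∧ cs3 k % 2 = cs3 k' % 2 := by
      intro k hk k' hk' hV hkk
      rcases chk3' k hk k' hk' with h | h | h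
      · exact absurd hV h
      · exact absurd h hkk
      · exact h
    rcases chk3 s₀ hs₀ with h | h | h | h
    · exact absurd h hz1
    · exact absurd h hz2
    · left
      intro u hu
      have hu' := (Subgroup.mem_subgroupOf.1 hu).1
      apply Subtype.ext
      have ho0 : cs3 s₀ % 2 = 1 := h
      have h3 : ∀ k < chevD4.nroots, V chevD4 J k = V chevD4 J s₀ → cs3 k % 2 = 1 := by
        intro k hk hV
        by_cases hkk : k = s₀
        · rw [hkk]; exact ho0
        · rw [(hfib k hk s₀ hs₀ hV hkk).2.2]; exact ho0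
      refine inverts_closure (S := {g | ∃ r ∈ {k | k < chevD4.nroots ∧ V chevD4 J k = V chevD4 J s₀},
        ∃ t, g = Elts.xG hp.inList r t}) ?_ ?_ _ hu'
      · rintro _ ⟨k, ⟨hk, hV⟩, t, rfl⟩
        show ((ψ (-1) : ↥(twistedD4 K q)) : GL chevD4.Idx K) * _ *
          ((ψ (-1) : ↥(twistedD4 K q)) : GL chevD4.Idx K)⁻¹ = _
        rw [hψ]
        exact conj_neg φ hk (h3 k hk hV) t
      · rintro _ ⟨k, ⟨hk, hV⟩, t, rfl⟩ _ ⟨k', ⟨hk', hV'⟩, t', rfl⟩
        by_cases hkk : k = k'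
        · subst hkk
          rw [Elts.xG_add, Elts.xG_add, add_comm]
        · obtain ⟨h4, h5, -⟩ := hfib k hk k' hk' (hV.trans hV'.symm) hkk
          exact (commute_xG hp K hk hk' (Ne.symm hkk) h4 h5 t t').symm
    · right
      intro u hu
      have hu' := (Subgroup.mem_subgroupOf.1 hu).1
      have hne : ∀ k < chevD4.nroots, V chevD4 J k = V chevD4 J s₀ →
          (k ≠ 18 ∧ k ≠ 13 ∧ k ≠ 12) ∧ (k ≠ 5 ∧ k ≠ 10 ∧ k ≠ 11) := by
        intro k hk hV
        have h1 : k ∉ [18, 13, 12] := fun h => hz1 (hV ▸ (cls1 k hk).2 h)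
        have h2 : k ∉ [5, 10, 11] := fun h => hz2 (hV ▸ (cls1' k hk).2 h)
        simpa using And.intro h1 h2
      have h3 : ∀ k < chevD4.nroots, V chevD4 J k = V chevD4 J s₀ →
          chevD4.commTerms 18 k = [] ∧ chevD4.commTerms 13 k = [] ∧ chevD4.commTerms 12 k = [] ∧
            chevD4.commTerms 5 k = [] ∧ chevD4.commTerms 10 k = [] ∧ chevD4.commTerms 11 k = [] := by
        intro k hk hV
        rcases chk3 k hk with h4 | h4 | h4 | h4
        · exact absurd (hV.symm.trans h4) hz1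
        · exact absurd (hV.symm.trans h4) hz2
        · exfalso
          by_cases hkk : k = s₀
          · rw [hkk] at h4
            omega
          · have := (hfib k hk s₀ hs₀ hV hkk).2.2
            omega
        · exact h4.2
      have hcent : ∀ (r : ℕ), r < chevD4.nroots → (∀ k < chevD4.nroots, V chevD4 J k = V chevD4 J s₀ →
          k ≠ r ∧ k ≠ chevD4.neg r ∧ chevD4.commTerms r k = []) → ∀ c : K,
          Elts.xG hp.inList r c * (u : GL chevD4.Idx K) = (u : GL chevD4.Idx K) * Elts.xG hp.inList r c := by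
        intro r hr' hk c
        have h5 : rspan (Elts.xG (F := K) hp.inList) {k | k < chevD4.nroots ∧ V chevD4 J k = V chevD4 J s₀} ≤
            Subgroup.centralizer {Elts.xG hp.inList r c} := by
          refine rspan_le _ ?_
          rintro k ⟨hk1, hk2⟩ t
          obtain ⟨h6, h7, h8⟩ := hk k hk1 hk2
          rw [Subgroup.mem_centralizer_iff]
          rintro _ rfl
          exact (commute_xG hp K hr' hk1 h6 h7 h8 c t).symm
        exact Subgroup.mem_centralizer_iff.1 (h5 hu') _ rfl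
      refine commute_range _ ?_ ?_
      · intro c
        apply Subtype.ext
        rw [Subgroup.coe_mul, Subgroup.coe_mul, hψ, psi_up, D4Fixed.X, D4U.xU_eq, D4U.xU_eq, D4U.xU_eq, ← xG_eq]
        have e1 := hcent 18 (by decide +kernel) (fun k hk hV => ⟨(hne k hk hV).1.1, by
          rw [simples.2.2.2.1]; exact (hne k hk hV).2.1, (h3 k hk hV).1⟩) c
        have e2 := hcent 13 (by decide +kernel) (fun k hk hV => ⟨(hne k hk hV).1.2.1, by
          rw [simples.2.2.2.2.1]; exact (hne k hk hV).2.2.1, (h3 k hk hV).2.1⟩) (φ c)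
        have e3 := hcent 12 (by decide +kernel) (fun k hk hV => ⟨(hne k hk hV).1.2.2, by
          rw [simples.2.2.2.2.2]; exact (hne k hk hV).2.2.2, (h3 k hk hV).2.2.1⟩) (φ (φ c))
        exact comm_three e1 e2 e3
      · intro c
        apply Subtype.ext
        rw [Subgroup.coe_mul, Subgroup.coe_mul, hψ, psi_lo, D4Fixed.Y, D4U.xU_eq, D4U.xU_eq, D4U.xU_eq, ← xG_eq]
        have e1 := hcent 5 (by decide +kernel) (fun k hk hV => ⟨(hne k hk hV).2.1, by
          rw [show chevD4.neg 5 = 18 by decide +kernel]; exact (hne k hk hV).1.1, (h3 k hk hV).2.2.2.1⟩) c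
        have e2 := hcent 10 (by decide +kernel) (fun k hk hV => ⟨(hne k hk hV).2.2.1, by
          rw [show chevD4.neg 10 = 13 by decide +kernel]; exact (hne k hk hV).1.2.1, (h3 k hk hV).2.2.2.2.1⟩) (φ c)
        have e3 := hcent 11 (by decide +kernel) (fun k hk hV => ⟨(hne k hk hV).2.2.2, by
          rw [show chevD4.neg 11 = 12 by decide +kernel]; exact (hne k hk hV).1.2.2, (h3 k hk hV).2.2.2.2.2⟩)
          (φ (φ c))
        exact comm_three e1 e2 e3
  rwa [hK] at hkey

end Cfsg.Agent.OddTab.D4Short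

namespace Cfsg.Agent.OddTab.Rows

open Cfsg Cfsg.Agent.SevenCases

universe u

/-- **Row `BRows.d4`.** -/
theorem d4 : BTwo.{u} (fun X _ => TwDFourOdd X) := by
  rintro G _ _ ⟨K, i1, i2, q, ho, hK, ⟨e⟩⟩
  have h1 : OddHalf.LieOddFam.OddPow q := oddPow_of_field_pow three_ne_zero hK ho
  obtain ⟨p, a, hp, -, ha, rfl⟩ := h1
  have hq : IsPrimePow (p ^ a) := hp.isPrimePow.pow (by omega)
  have h2 : 3 < (p ^ a) ^ 3 := by
    have := hq.two_le
    calc 3 < 2 ^ 3 := by norm_num
      _ ≤ (p ^ a) ^ 3 := Nat.pow_le_pow_left this 3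
  exact btwo_of_hasLong ((D4Short.hasLong hq hK ho).of_equiv e.symm) h2

end Cfsg.Agent.OddTab.Rows

private theorem dce_f9e3d5f3ce47 : _root_.True := by
  try have : _root_.True := by simp only [_root_.Cfsg.Agent.ChevalleyStructure.D4Fixed.X.eq_1]
  try have : _root_.True := by simp only [_root_.Cfsg.Agent.ChevalleyStructure.D4Fixed.Y.eq_1]
  exact _root_.True.intro
end
end
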