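import Mathlib
import Cfsg.Prelude.Def_EvenType
import Cfsg.Agent.OddTab.Base
import Cfsg.Agent.SignalizersComponents.SLQuasisimple
import Cfsg.Agent.OddHalf.NI.FrameSp_m3
import Cfsg.Agent.S0269
import Cfsg.Agent.S0270
import Cfsg.Agent.H283.NoIn
import Cfsg.Agent.SmallSimple.S1000.PSLFacts
import Cfsg.Agent.FastGrp
import Cfsg.Agent.Prune
set_option linter.all false
prune_inst 0x7fffbcfdbfb97ffedfff7e7ffed6dffffbbfffffffdff94bffe86bffafff7b0ac9c5fbad0bebd9ff1ef7e09410fc7bd3fd7eceffea6bdc7ffffd5ff45ffbff9ffdf6bd08519e88b40fbc2fff63f07f8e7f3fffffffffffffffffffffffffffbeffffffffffff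
open scoped Cfsg.Agent.FastGrp

-- merged: Cfsg.Agent.OddTab.Rank
section

/-!
# Elementary abelian 2-subgroups generated by commuting involutions (helper35)

* `prank_succ` : add an involution commuting with `A` and not in `A`;
* `prank_two`, `prank_three` : independent commuting involutions;
* `prank_of_inj`, `prank_of_le`.
-/

set_option autoImplicit false

namespace Cfsg.Agent.OddTab

open Subgroup Cfsg

theorem prank_of_inj {G H : Type*} [Group G] [Group H] {p k : ℕ} (e : H →* G) (he : Function.Injective e)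
    (h : PRankAtLeast p k H) : PRankAtLeast p k G := by
  obtain ⟨A, hA, hp, hc⟩ := h
  refine ⟨A.map e, ⟨⟨?_⟩⟩, ?_, ?_⟩
  · rintro ⟨_, x, hx, rfl⟩ ⟨_, y, hy, rfl⟩
    have h1 : x * y = y * x := congrArg Subtype.val (hA.is_comm.comm (⟨x, hx⟩ : A) ⟨y, hy⟩)
    apply Subtype.ext
    change e x * e y = e y * e x
    rw [← map_mul, h1, map_mul]
  · rintro _ ⟨x, hx, rfl⟩
    rw [← map_pow, hp x hx, map_one]
  · rw [Subgroup.card_map_of_injective he]
    exact hc

/-- the rank of `C` from a homomorphism into `C` -/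
theorem prank_codRestrict {G H : Type*} [Group G] [Group H] {p k : ℕ} (C : Subgroup G) (e : H →* G)
    (he : Function.Injective e) (hC : ∀ h, e h ∈ C) (h : PRankAtLeast p k H) : PRankAtLeast p k ↥C :=
  prank_of_inj (e.codRestrict C hC) (fun a b hab => he (congrArg Subtype.val hab)) h

/-- a commutative subgroup of exponent two of order at least `2 ^ k` -/
def Elem {G : Type*} [Group G] (k : ℕ) (A : Subgroup G) : Prop :=
  (∀ a ∈ A, ∀ b ∈ A, a * b = b * a) ∧ (∀ a ∈ A, a ^ 2 = 1) ∧ 2 ^ k ≤ Nat.card ↥A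

theorem Elem.prank {G : Type*} [Group G] {k : ℕ} {A : Subgroup G} (h : Elem k A) : PRankAtLeast 2 k G :=
  ⟨A, ⟨⟨fun a b => Subtype.ext (h.1 a a.2 b b.2)⟩⟩, h.2.1, h.2.2⟩

theorem Elem.prank_of_le {G : Type*} [Group G] {k : ℕ} {A C : Subgroup G} (h : Elem k A) (hC : A ≤ C) :
    PRankAtLeast 2 k ↥C := by
  refine prank_of_inj (Subgroup.inclusion hC) (Subgroup.inclusion_injective hC)
    ⟨⊤, ⟨⟨?_⟩⟩, ?_, ?_⟩
  · rintro ⟨a, -⟩ ⟨b, -⟩
    exact Subtype.ext (Subtype.ext (h.1 _ a.2 _ b.2))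
  · intro a _
    exact Subtype.ext (h.2.1 _ a.2)
  · rw [Subgroup.card_top]
    exact h.2.2

theorem elem_bot {G : Type*} [Group G] : Elem 0 (⊥ : Subgroup G) := by
  refine ⟨?_, ?_, ?_⟩
  · intro a ha b hb
    rw [mem_bot.1 ha, mem_bot.1 hb]
  · intro a ha
    rw [mem_bot.1 ha, one_pow]
  · simp

/-- add an involution -/
theorem Elem.sup_closure {G : Type*} [Group G] [Finite G] {k : ℕ} {A : Subgroup G} (h : Elem k A) {x : G}
    (hx : x ^ 2 = 1) (hc : ∀ a ∈ A, x * a = a * x) (hn : x ∉ A) : Elem (k + 1) (_root_.Subgroup.closure ((A : Set G) ∪ {x})) := by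
  have hcomm : ∀ a ∈ ((A : Set G) ∪ {x}), ∀ b ∈ ((A : Set G) ∪ {x}), a * b = b * a := by
    rintro a (ha | ha) b (hb | hb)
    · exact h.1 a ha b hb
    · rw [Set.mem_singleton_iff.1 hb]
      exact (hc a ha).symm
    · rw [Set.mem_singleton_iff.1 ha]
      exact hc b hb
    · rw [Set.mem_singleton_iff.1 ha, Set.mem_singleton_iff.1 hb]
  have hcomm' : ∀ a ∈ _root_.Subgroup.closure ((A : Set G) ∪ {x}), ∀ b ∈ closure ((A : Set G) ∪ {x}), a * b = b * a := by
    intro a ha b hb
    have h1 : closure ((A : Set G) ∪ {x}) ≤ centralizer ((A : Set G) ∪ {x}) := by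
      rw [closure_le]
      intro a ha b hb
      exact hcomm b hb a ha
    have h2 : closure ((A : Set G) ∪ {x}) ≤ centralizer (closure ((A : Set G) ∪ {x}) : Set G) := by
      rw [Subgroup.centralizer_closure]
      exact h1
    exact (mem_centralizer_iff.1 (h2 hb) a ha)
  refine ⟨hcomm', ?_, ?_⟩
  · intro a ha
    induction ha using closure_induction with
    | mem a ha =>
      rcases ha with ha | ha
      · exact h.2.1 a ha
      · rw [Set.mem_singleton_iff.1 ha]; exact hx
    | one => exact one_pow 2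
    | mul a b ha hb h1 h2 =>
      rw [pow_two, mul_assoc, ← mul_assoc b a b, hcomm' b hb a ha, mul_assoc a b b, ← mul_assoc, ← pow_two, ← pow_two,
        h1, h2, one_mul]
    | inv a ha h1 => rw [inv_pow, h1, inv_one]
  · have hle : A ≤ closure ((A : Set G) ∪ {x}) := fun a ha => _root_.Subgroup.subset_closure (Or.inl ha)
    have h1 : A.relIndex (closure ((A : Set G) ∪ {x})) ≠ 1 := by
      intro h1
      rw [relIndex_eq_one] at h1
      exact hn (h1 (_root_.Subgroup.subset_closure (Or.inr rfl)))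
    have h2 : A.relIndex (closure ((A : Set G) ∪ {x})) ≠ 0 := by
      have : Finite (↥(closure ((A : Set G) ∪ {x}))) := inferInstance
      exact Subgroup.FiniteIndex.index_ne_zero
    have h3 : Nat.card ↥A * A.relIndex (closure ((A : Set G) ∪ {x})) = Nat.card ↥(closure ((A : Set G) ∪ {x})) := by
      rw [← Nat.card_congr (subgroupOfEquivOfLe hle).toEquiv]
      exact Subgroup.card_mul_index (A.subgroupOf (closure ((A : Set G) ∪ {x})))
    have h4 : 2 ≤ A.relIndex (closure ((A : Set G) ∪ {x})) := by omega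
    rw [← h3, pow_succ]
    exact Nat.mul_le_mul h.2.2 h4

/-- one involution -/
theorem elem_one {G : Type*} [Group G] [Finite G] {x : G} (hx : x ^ 2 = 1) (h1 : x ≠ 1) :
    Elem 1 (_root_.Subgroup.closure ({x} : Set G)) := by
  have h := (elem_bot (G := G)).sup_closure hx (fun a ha => by rw [mem_bot.1 ha, one_mul, mul_one])
    (fun h => h1 (mem_bot.1 h))
  have h2 : _root_.Subgroup.closure ((((⊥ : Subgroup G) : Set G)) ∪ {x}) = closure ({x} : Set G) := by
    rw [Subgroup.closure_union, Subgroup.closure_eq, bot_sup_eq]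
  rw [h2] at h
  exact h

theorem mem_closure_single {G : Type*} [Group G] {x y : G} (hx : x ^ 2 = 1) (hy : y ∈ _root_.Subgroup.closure ({x} : Set G)) :
    y = 1 ∨ y = x := by
  obtain ⟨n, rfl⟩ := mem_closure_singleton.1 hy
  rcases Int.even_or_odd' n with ⟨k, rfl | rfl⟩
  · left
    rw [zpow_mul]
    have : x ^ (2 : ℤ) = 1 := by exact_mod_cast hx
    rw [this, one_zpow]
  · right
    rw [zpow_add, zpow_mul, zpow_one]
    have : x ^ (2 : ℤ) = 1 := by exact_mod_cast hx
    rw [this, one_zpow, one_mul]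

/-- two independent commuting involutions -/
theorem elem_two {G : Type*} [Group G] [Finite G] {x y : G} (hx : x ^ 2 = 1) (hy : y ^ 2 = 1) (h1 : x ≠ 1)
    (h2 : y ≠ 1) (h3 : x ≠ y) (hc : x * y = y * x) : Elem 2 (_root_.Subgroup.closure ({x, y} : Set G)) := by
  have h := (elem_one hx h1).sup_closure hy (fun a ha => by
    rcases mem_closure_single hx ha with rfl | rfl
    · rw [one_mul, mul_one]
    · exact hc.symm) (fun ha => by
    rcases mem_closure_single hx ha with h | h
    · exact h2 h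
    · exact h3 h.symm)
  have h4 : _root_.Subgroup.closure (((_root_.Subgroup.closure ({x} : Set G) : Subgroup G) : Set G) ∪ {y}) = closure ({x, y} : Set G) := by
    rw [Subgroup.closure_union, Subgroup.closure_eq, ← Subgroup.closure_union]
    rfl
  rw [h4] at h
  exact h

theorem mem_closure_pair {G : Type*} [Group G] {x y z : G} (hx : x ^ 2 = 1) (hy : y ^ 2 = 1)
    (hc : x * y = y * x) (hz : z ∈ _root_.Subgroup.closure ({x, y} : Set G)) : z = 1 ∨ z = x ∨ z = y ∨ z = x * y := by
  have hx' : x * x = 1 := by rw [← pow_two]; exact hx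
  have hy' : y * y = 1 := by rw [← pow_two]; exact hy
  have hxi : x⁻¹ = x := inv_eq_of_mul_eq_one_left hx'
  have hyi : y⁻¹ = y := inv_eq_of_mul_eq_one_left hy'
  have hc1 : y * (x * y) = x := by rw [← mul_assoc, ← hc, mul_assoc, hy', mul_one]
  have hc2 : x * (x * y) = y := by rw [← mul_assoc, hx', one_mul]
  have hc3 : x * y * x = y := by rw [hc, mul_assoc, hx', mul_one]
  have hc4 : x * y * y = x := by rw [mul_assoc, hy', mul_one]
  have hc5 : x * y * (x * y) = 1 := by rw [← mul_assoc, hc3, hy']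
  induction hz using closure_induction with
  | mem a ha =>
    rcases ha with ha | ha
    · exact Or.inr (Or.inl ha)
    · exact Or.inr (Or.inr (Or.inl ha))
  | one => exact Or.inl rfl
  | mul a b ha hb h1 h2 =>
    rcases h1 with rfl | rfl | rfl | rfl <;> rcases h2 with rfl | rfl | rfl | rfl <;>
      simp only [one_mul, mul_one, hx', hy', hc1, hc2, hc3, hc4, hc5, ← hc, true_or, or_true]
  | inv a ha h1 =>
    rcases h1 with rfl | rfl | rfl | rfl
    · left; rw [inv_one]
    · right; left; exact hxi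
    · right; right; left; exact hyi
    · right; right; right
      rw [mul_inv_rev, hxi, hyi, hc]

/-- three independent commuting involutions -/
theorem elem_three {G : Type*} [Group G] [Finite G] {x y z : G} (hx : x ^ 2 = 1) (hy : y ^ 2 = 1) (hz : z ^ 2 = 1)
    (h1 : x ≠ 1) (h2 : y ≠ 1) (h3 : x ≠ y) (h4 : z ≠ 1) (h5 : z ≠ x) (h6 : z ≠ y) (h7 : z ≠ x * y)
    (hxy : x * y = y * x) (hxz : x * z = z * x) (hyz : y * z = z * y) :
    Elem 3 (_root_.Subgroup.closure ({x, y, z} : Set G)) := by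
  have h := (elem_two hx hy h1 h2 h3 hxy).sup_closure hz (fun a ha => by
    rcases mem_closure_pair hx hy hxy ha with rfl | rfl | rfl | rfl
    · rw [one_mul, mul_one]
    · exact hxz.symm
    · exact hyz.symm
    · rw [← mul_assoc, ← hxz, mul_assoc, ← hyz, mul_assoc]) (fun ha => by
    rcases mem_closure_pair hx hy hxy ha with h | h | h | h
    · exact h4 h
    · exact h5 h
    · exact h6 h
    · exact h7 h)
  have h8 : _root_.Subgroup.closure (((_root_.Subgroup.closure ({x, y} : Set G) : Subgroup G) : Set G) ∪ {z}) = closure ({x, y, z} : Set G) := by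
    rw [Subgroup.closure_union, Subgroup.closure_eq, ← Subgroup.closure_union]
    congr 1
    ext a
    simp only [Set.mem_union, Set.mem_insert_iff, Set.mem_singleton_iff]
    (clear * -; tauto)
  rw [h8] at h
  exact h

/-- three independent commuting involutions in `C` -/
theorem prank_three {G : Type*} [Group G] [Finite G] {x y z : G} (hx : x ^ 2 = 1) (hy : y ^ 2 = 1) (hz : z ^ 2 = 1)
    (h1 : x ≠ 1) (h2 : y ≠ 1) (h3 : x ≠ y) (h4 : z ≠ 1) (h5 : z ≠ x) (h6 : z ≠ y) (h7 : z ≠ x * y)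
    (hxy : x * y = y * x) (hxz : x * z = z * x) (hyz : y * z = z * y) {C : Subgroup G} (hC : x ∈ C) (hC' : y ∈ C)
    (hC'' : z ∈ C) : PRankAtLeast 2 3 ↥C := by
  refine (elem_three hx hy hz h1 h2 h3 h4 h5 h6 h7 hxy hxz hyz).prank_of_le ?_
  rw [closure_le]
  rintro a (rfl | rfl | rfl)
  · exact hC
  · exact hC'
  · exact hC''

end Cfsg.Agent.OddTab

end

-- merged: Cfsg.Agent.OddTab.BlockSL
section

/-!
# The block `SL(ι)` of `SL(ι ⊕ κ)` and the involution `diag(c, d)`, `c² = d²` (helper35)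

* `blk` : the embedding `SL(ι) → SL(ι ⊕ κ)`;
* `cover` : `Cover π blk x` for `x = diag(c, …, c, d, …, d)`, `c ≠ d`;
* `blk_injective`, `orderOf_eq_two`.
-/

set_option autoImplicit false

namespace Cfsg.Agent.OddTab.BlockSL

open Matrix Subgroup Cfsg

universe v

variable {F : Type*} [Field F]
variable {ι κ : Type*} [Fintype ι] [DecidableEq ι] [Fintype κ] [DecidableEq κ]

theorem hz {α β : Type*} (M : Matrix α β F) (u w : F) (h : u • M = w • M) (hne : u ≠ w) : M = 0 := by
  have h1 : (u - w) • M = 0 := by rw [sub_smul, h, sub_self]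
  rcases smul_eq_zero.1 h1 with h2 | h2
  · exact absurd (sub_eq_zero.1 h2) hne
  · exact h2

/-- block embedding -/
def blk : Matrix.SpecialLinearGroup ι F →* Matrix.SpecialLinearGroup (ι ⊕ κ) F where
  toFun A := ⟨fromBlocks A.1 0 0 1, by rw [det_fromBlocks_zero₂₁, det_one, mul_one]; exact A.2⟩
  map_one' := Subtype.ext fromBlocks_one
  map_mul' A B := by
    apply Subtype.ext
    change fromBlocks (A.1 * B.1) 0 0 1 = fromBlocks A.1 0 0 1 * fromBlocks B.1 0 0 1
    rw [fromBlocks_multiply]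
    simp only [_root_.Matrix.mul_zero, _root_.add_zero, _root_.Matrix.mul_one, _root_.Matrix.zero_mul, _root_.mul_one, _root_.zero_add]

theorem coe_blk (A : Matrix.SpecialLinearGroup ι F) :
    ((blk A : Matrix.SpecialLinearGroup (ι ⊕ κ) F) : Matrix (ι ⊕ κ) (ι ⊕ κ) F) = fromBlocks A.1 0 0 1 := rfl

section

variable {G : Type v} [Group G] {π : Matrix.SpecialLinearGroup (ι ⊕ κ) F →* G} (hs : Function.Surjective π)
  (hk : π.ker = center (Matrix.SpecialLinearGroup (ι ⊕ κ) F))
include hk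

/-- equality under `π` -/
theorem eq_iff (A B : Matrix.SpecialLinearGroup (ι ⊕ κ) F) :
    π A = π B ↔ ∃ r : F, r ^ Fintype.card (ι ⊕ κ) = 1 ∧ A.1 = r • B.1 := by
  constructor
  · intro h
    have h1 : A * B⁻¹ ∈ π.ker := by
      rw [MonoidHom.mem_ker, map_mul, map_inv, h, mul_inv_cancel]
    rw [hk] at h1
    obtain ⟨r, hr, hrA⟩ := Matrix.SpecialLinearGroup.mem_center_iff.1 h1
    refine ⟨r, hr, ?_⟩
    have h2 : A = (A * B⁻¹) * B := by group
    have h3 : ((A * B⁻¹ * B : Matrix.SpecialLinearGroup (ι ⊕ κ) F) : Matrix (ι ⊕ κ) (ι ⊕ κ) F) =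
        ((A * B⁻¹ : Matrix.SpecialLinearGroup (ι ⊕ κ) F) : Matrix (ι ⊕ κ) (ι ⊕ κ) F) * (B : Matrix (ι ⊕ κ) (ι ⊕ κ) F) :=
      Matrix.SpecialLinearGroup.coe_mul _ _
    rw [← hrA, ← h2, scalar_apply, ← Matrix.smul_eq_diagonal_mul] at h3
    exact h3
  · rintro ⟨r, hr, hrA⟩
    have h1 : A * B⁻¹ ∈ π.ker := by
      rw [hk, Matrix.SpecialLinearGroup.mem_center_iff]
      refine ⟨r, hr, ?_⟩
      rw [Matrix.SpecialLinearGroup.coe_mul, hrA, smul_mul_assoc, ← Matrix.SpecialLinearGroup.coe_mul, mul_inv_cancel,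
        Matrix.SpecialLinearGroup.coe_one, scalar_apply, smul_one_eq_diagonal]
    rw [MonoidHom.mem_ker, map_mul, map_inv] at h1
    exact mul_inv_eq_one.1 h1

theorem blk_injective [Nonempty κ] : Function.Injective (π.comp (blk (κ := κ) : Matrix.SpecialLinearGroup ι F →* _)) := by
  rw [injective_iff_map_eq_one]
  intro A hA
  have h1 : π (blk A) = π 1 := by rw [map_one]; exact hA
  obtain ⟨r, -, hr⟩ := (eq_iff hk _ _).1 h1
  rw [coe_blk, Matrix.SpecialLinearGroup.coe_one, ← fromBlocks_one, fromBlocks_smul, fromBlocks_inj] at hr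
  obtain ⟨h2, -, -, h3⟩ := hr
  obtain ⟨k⟩ := (inferInstance : Nonempty κ)
  have h4 := congrFun (congrFun h3 k) k
  rw [Matrix.smul_apply, one_apply_eq, smul_eq_mul, mul_one] at h4
  apply Subtype.ext
  rw [h2, ← h4, one_smul]
  rfl

variable {x : Matrix.SpecialLinearGroup (ι ⊕ κ) F} {c d : F} (hc : c ≠ 0) (hd : d ≠ 0) (hcd : c ≠ d)
  (hx : x.1 = fromBlocks (c • (1 : Matrix ι ι F)) 0 0 (d • (1 : Matrix κ κ F)))
include hs hc hd hcd hx

/-- the block `SL(ι)` and the element `diag(c, d)` -/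
theorem cover : Cover π (blk : Matrix.SpecialLinearGroup ι F →* _) x := by
  refine ⟨hs, ?_, ?_⟩
  · intro h
    rw [← map_mul, ← map_mul]
    congr 1
    apply Subtype.ext
    rw [Matrix.SpecialLinearGroup.coe_mul, Matrix.SpecialLinearGroup.coe_mul, hx, coe_blk, fromBlocks_multiply, fromBlocks_multiply]
    simp only [_root_.Algebra.mul_smul_comm, _root_.mul_one, _root_.Matrix.mul_zero, _root_.add_zero, _root_.Matrix.mul_smul, _root_.Matrix.mul_one, _root_.smul_zero, _root_.zero_add, _root_.Algebra.smul_mul_assoc, _root_.one_mul, _root_.Matrix.zero_mul]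
  · intro g hg
    obtain ⟨r, -, hr⟩ := (eq_iff hk _ _).1 hg
    rw [Matrix.SpecialLinearGroup.coe_mul, Matrix.SpecialLinearGroup.coe_mul, hx] at hr
    have hgb : g.1 = fromBlocks g.1.toBlocks₁₁ g.1.toBlocks₁₂ g.1.toBlocks₂₁ g.1.toBlocks₂₂ :=
      (fromBlocks_toBlocks g.1).symm
    have hgb' : (g⁻¹).1 = fromBlocks (g⁻¹).1.toBlocks₁₁ (g⁻¹).1.toBlocks₁₂ (g⁻¹).1.toBlocks₂₁ (g⁻¹).1.toBlocks₂₂ :=
      (fromBlocks_toBlocks (g⁻¹).1).symm
    have hgg : g.1 * (g⁻¹).1 = 1 := by
      rw [← Matrix.SpecialLinearGroup.coe_mul, mul_inv_cancel, Matrix.SpecialLinearGroup.coe_one]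
    have hgg' : (g⁻¹).1 * g.1 = 1 := by
      rw [← Matrix.SpecialLinearGroup.coe_mul, inv_mul_cancel, Matrix.SpecialLinearGroup.coe_one]
    generalize g.1.toBlocks₁₁ = a at hgb
    generalize g.1.toBlocks₁₂ = b at hgb
    generalize g.1.toBlocks₂₁ = b' at hgb
    generalize g.1.toBlocks₂₂ = a' at hgb
    generalize (g⁻¹).1.toBlocks₁₁ = s at hgb'
    generalize (g⁻¹).1.toBlocks₁₂ = t at hgb'
    generalize (g⁻¹).1.toBlocks₂₁ = t' at hgb'
    generalize (g⁻¹).1.toBlocks₂₂ = s' at hgb'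
    rw [hgb, fromBlocks_multiply, fromBlocks_multiply, fromBlocks_smul, fromBlocks_inj] at hr
    simp only [Matrix.mul_zero, add_zero, zero_add, Matrix.zero_mul, Matrix.mul_smul, Matrix.mul_one, Matrix.smul_mul,
      Matrix.one_mul] at hr
    obtain ⟨h11, h12, h21, h22⟩ := hr
    rw [smul_smul] at h11 h12 h21 h22
    rw [hgb, hgb', fromBlocks_multiply, ← fromBlocks_one, fromBlocks_inj] at hgg
    rw [hgb, hgb', fromBlocks_multiply, ← fromBlocks_one, fromBlocks_inj] at hgg'
    obtain ⟨g11, g12, g21, g22⟩ := hgg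
    obtain ⟨k11, k12, k21, k22⟩ := hgg'
    by_cases hr1 : r = 1
    · subst hr1
      have hb : b = 0 := hz b _ _ h12 (by rw [one_mul]; exact hcd.symm)
      have hb' : b' = 0 := hz b' _ _ h21 (by rw [one_mul]; exact hcd)
      subst hb hb'
      rw [Matrix.zero_mul, add_zero] at g11
      rw [Matrix.mul_zero, zero_add] at k12
      rw [Matrix.zero_mul, zero_add] at g21 g22
      have hsa : s * a = 1 := mul_eq_one_comm.1 g11
      have hsa' : s' * a' = 1 := mul_eq_one_comm.1 g22
      have ht : t = 0 := by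
        have := congrArg (· * s') k12
        simp only [Matrix.mul_assoc, Matrix.zero_mul] at this
        rw [g22, Matrix.mul_one] at this
        exact this
      have ht' : t' = 0 := by
        have := congrArg (s' * ·) g21
        simp only [← Matrix.mul_assoc, Matrix.mul_zero] at this
        rw [hsa', Matrix.one_mul] at this
        exact this
      subst ht ht'
      left
      intro h
      refine ⟨⟨a * h.1 * s, ?_⟩, ?_⟩
      · rw [det_mul, det_mul, h.2, mul_one, ← det_mul, g11, det_one]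
      · congr 1
        apply Subtype.ext
        rw [Matrix.SpecialLinearGroup.coe_mul, Matrix.SpecialLinearGroup.coe_mul, coe_blk, hgb, hgb', fromBlocks_multiply,
          fromBlocks_multiply]
        change _ = fromBlocks (a * h.1 * s) 0 0 1
        simp only [g22, _root_.Matrix.mul_zero, _root_.add_zero, _root_.Matrix.mul_one, _root_.Matrix.zero_mul, _root_.mul_one, _root_.zero_add]
    · have hne : ∀ u : F, u ≠ 0 → u ≠ r * u := by
        intro u hu h
        apply hr1
        exact (mul_right_cancel₀ hu (by rw [one_mul]; exact h)).symm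
      have ha : a = 0 := hz a _ _ h11 (hne c hc)
      have ha' : a' = 0 := hz a' _ _ h22 (hne d hd)
      subst ha ha'
      simp only [Matrix.zero_mul, Matrix.mul_zero, add_zero, zero_add] at g11 g12 g21 g22 k11 k12 k21 k22
      have hs1 : s = 0 := by
        have h2 := congrArg (t * ·) g21
        simp only [← Matrix.mul_assoc, Matrix.mul_zero] at h2
        rw [k11, Matrix.one_mul] at h2
        exact h2
      have hs1' : s' = 0 := by
        have h2 := congrArg (t' * ·) g12
        simp only [← Matrix.mul_assoc, Matrix.mul_zero] at h2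
        rw [k22, Matrix.one_mul] at h2
        exact h2
      subst hs1 hs1'
      right
      intro h h'
      congr 1
      apply Subtype.ext
      simp only [Matrix.SpecialLinearGroup.coe_mul, coe_blk, hgb, hgb', fromBlocks_multiply]
      simp [g11]

omit hs hc hd in
theorem orderOf_eq_two [Nonempty ι] [Nonempty κ] (hsq : c ^ 2 = d ^ 2) : orderOf (π x) = 2 := by
  have : Fact (Nat.Prime 2) := ⟨Nat.prime_two⟩
  obtain ⟨i⟩ := (inferInstance : Nonempty ι)
  obtain ⟨k⟩ := (inferInstance : Nonempty κ)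
  refine orderOf_eq_prime ?_ ?_
  · have h1 : π (x * x) = π 1 := by
      have h2 : (x * x).1 = (c ^ 2) • (1 : Matrix (ι ⊕ κ) (ι ⊕ κ) F) := by
        rw [Matrix.SpecialLinearGroup.coe_mul, hx, fromBlocks_multiply, ← fromBlocks_one, fromBlocks_smul, fromBlocks_inj]
        simp only [Matrix.mul_zero, add_zero, zero_add, Matrix.mul_smul, Matrix.mul_one, smul_smul, smul_zero, true_and]
        rw [← pow_two, ← pow_two, hsq]
        exact ⟨rfl, rfl⟩
      refine (eq_iff hk _ _).2 ⟨c ^ 2, ?_, h2⟩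
      have h3 := (x * x).2
      rw [h2, det_smul, det_one, mul_one] at h3
      exact h3
    rw [pow_two, ← map_mul, h1, map_one]
  · intro h
    have h1 : π x = π 1 := by rw [h, map_one]
    obtain ⟨r, -, hr⟩ := (eq_iff hk _ _).1 h1
    rw [hx, Matrix.SpecialLinearGroup.coe_one, ← fromBlocks_one, fromBlocks_smul, fromBlocks_inj] at hr
    obtain ⟨h2, -, -, h3⟩ := hr
    have h4 := congrFun (congrFun h2 i) i
    have h5 := congrFun (congrFun h3 k) k
    rw [Matrix.smul_apply, Matrix.smul_apply, one_apply_eq, smul_eq_mul, smul_eq_mul, mul_one, mul_one] at h4 h5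
    exact hcd (h4.trans h5.symm)

end

end Cfsg.Agent.OddTab.BlockSL

end

-- merged: Cfsg.Agent.OddTab.PslGen
section

/-!
# `G₂`-groups in `L₂°(PSL_n(q))`, `q` odd (helper35)

* `lpo_psl` : `n ≥ 5`, from `InGp 2 (SL₄(q))`;
* `lpo_psl4` : `n = 4`, `q ≡ 1 (mod 8)`, from `InGp 2 (PSL₃(q))`.
-/

set_option autoImplicit false

namespace Cfsg.Agent.OddTab.BlockSL

open Matrix Subgroup Cfsg

universe u

/-- reindexing -/
def ridx {α β F : Type*} [Field F] [Fintype α] [DecidableEq α] [Fintype β] [DecidableEq β] (e : α ≃ β) :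
    Matrix.SpecialLinearGroup α F ≃* Matrix.SpecialLinearGroup β F where
  toFun A := ⟨A.1.submatrix e.symm e.symm, by rw [det_submatrix_equiv_self]; exact A.2⟩
  invFun A := ⟨A.1.submatrix e e, by rw [det_submatrix_equiv_self]; exact A.2⟩
  left_inv A := by
    apply Subtype.ext
    ext i j
    simp
  right_inv A := by
    apply Subtype.ext
    ext i j
    simp
  map_mul' A B := by
    apply Subtype.ext
    exact (submatrix_mul_equiv A.1 B.1 e.symm e.symm e.symm).symm

section diag

variable {F : Type*} [Field F] {ι : Type*} [Fintype ι] [DecidableEq ι]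

/-- diagonal elements of `SL` -/
def dg (v : ι → F) (h : ∏ i, v i = 1) : Matrix.SpecialLinearGroup ι F := ⟨diagonal v, by rw [det_diagonal, h]⟩

theorem dg_mul (v w : ι → F) (h : ∏ i, v i = 1) (h' : ∏ i, w i = 1) (h'' : ∏ i, (v i * w i) = 1) :
    dg v h * dg w h' = dg (fun i => v i * w i) h'' := by
  apply Subtype.ext
  exact diagonal_mul_diagonal v w

theorem dg_eq_iff (v w : ι → F) (h : ∏ i, v i = 1) (h' : ∏ i, w i = 1) : dg v h = dg w h' ↔ v = w := by
  constructor
  · intro h1
    exact diagonal_injective (congrArg Subtype.val h1)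
  · rintro rfl
    rfl

theorem dg_comm (v w : ι → F) (h : ∏ i, v i = 1) (h' : ∏ i, w i = 1) : dg v h * dg w h' = dg w h' * dg v h := by
  rw [dg_mul v w h h' (by rw [Finset.prod_mul_distrib, h, h', mul_one]),
    dg_mul w v h' h (by rw [Finset.prod_mul_distrib, h, h', mul_one]), dg_eq_iff]
  funext i
  exact mul_comm _ _

theorem dg_one (h : ∏ _i : ι, (1 : F) = 1) : dg (fun _ : ι => (1 : F)) h = 1 := Subtype.ext diagonal_one

theorem dg_sq (v : ι → F) (h : ∏ i, v i = 1) (hv : ∀ i, v i * v i = 1) : dg v h ^ 2 = 1 := by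
  rw [pow_two, dg_mul v v h h (by simp only [hv, _root_.Finset.prod_const_one]), ← dg_one (by simp), dg_eq_iff]
  funext i
  exact hv i

theorem dg_ne_one (v : ι → F) (h : ∏ i, v i = 1) (i : ι) (hi : v i ≠ 1) : dg v h ≠ 1 := by
  rw [← dg_one (by simp only [_root_.Finset.prod_const_one]), ne_eq, dg_eq_iff]
  intro h1
  exact hi (congrFun h1 i)

theorem dg_ne (v w : ι → F) (h : ∏ i, v i = 1) (h' : ∏ i, w i = 1) (i : ι) (hi : v i ≠ w i) : dg v h ≠ dg w h' := by
  rw [ne_eq, dg_eq_iff]
  intro h1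
  exact hi (congrFun h1 i)

end diag

/-- `m₂(SL₄(q)) ≥ 3` -/
theorem prank_four {F : Type*} [Field F] [Finite F] (h2 : (-1 : F) ≠ 1) :
    PRankAtLeast 2 3 (Matrix.SpecialLinearGroup (Fin 4) F) := by
  have p1 : ∏ i, (![-1, -1, 1, 1] : Fin 4 → F) i = 1 := by simp [Fin.prod_univ_four]
  have p2 : ∏ i, (![1, -1, -1, 1] : Fin 4 → F) i = 1 := by simp [Fin.prod_univ_four]
  have p3 : ∏ i, (![1, 1, -1, -1] : Fin 4 → F) i = 1 := by simp [Fin.prod_univ_four]
  have p4 : ∏ i, ((![-1, -1, 1, 1] : Fin 4 → F) i * (![1, -1, -1, 1] : Fin 4 → F) i) = 1 := by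
    simp [Fin.prod_univ_four]
  refine (elem_three (x := dg _ p1) (y := dg _ p2) (z := dg _ p3) (dg_sq _ p1 ?_) (dg_sq _ p2 ?_) (dg_sq _ p3 ?_)
    (dg_ne_one _ p1 0 h2) (dg_ne_one _ p2 1 h2) (dg_ne _ _ p1 p2 0 h2) (dg_ne_one _ p3 2 h2) (dg_ne _ _ p3 p1 2 h2)
    (dg_ne _ _ p3 p2 3 h2) ?_ (dg_comm _ _ _ _) (dg_comm _ _ _ _) (dg_comm _ _ _ _)).prank
  · intro i; fin_cases i <;> simp
  · intro i; fin_cases i <;> simp
  · intro i; fin_cases i <;> simp
  · rw [dg_mul _ _ p1 p2 p4]
    refine dg_ne _ _ _ _ 3 ?_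
    simpa using h2

theorem neg_one_ne_one_of_odd {F : Type*} [Field F] [Fintype F] (hF : Odd (Fintype.card F)) : (-1 : F) ≠ 1 := by
  intro h
  apply SignalizersComponents.SLQuasisimple.two_ne_zero_of_odd hF
  have : (1 : F) + 1 = 0 := by
    nth_rewrite 1 [← h]
    ring
  rw [← this]
  norm_num

section

variable {F : Type} [Field F]

/-- the quotient map from the reindexed group -/
theorem exists_pi {G : Type u} [Group G] {n : ℕ} {ι : Type} [Fintype ι] [DecidableEq ι] (e₀ : ι ≃ Fin n)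
    (e : G ≃* Matrix.ProjectiveSpecialLinearGroup (Fin n) F) :
    ∃ π : Matrix.SpecialLinearGroup ι F →* G, Function.Surjective π ∧
      π.ker = center (Matrix.SpecialLinearGroup ι F) := by
  have f : (Matrix.SpecialLinearGroup ι F ⧸ center (Matrix.SpecialLinearGroup ι F)) ≃* G :=
    (CpQuot.Congr.cq (ridx (F := F) e₀)).trans e.symm
  refine ⟨f.toMonoidHom.comp (QuotientGroup.mk' _), ?_, ?_⟩
  · rw [MonoidHom.coe_comp]
    exact f.surjective.comp (QuotientGroup.mk'_surjective _)
  · ext x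
    rw [MonoidHom.mem_ker, MonoidHom.comp_apply, ← QuotientGroup.eq_one_iff]
    exact map_eq_one_iff f f.injective

theorem even_range {G : Type u} [Group G] [Finite G] {H : Type*} [Group H] {π : H →* G} (hi : Function.Injective π)
    (h : Even (Nat.card H)) : ¬ (Nat.card ↥π.range).Coprime 2 := by
  rw [Nat.card_congr (MonoidHom.ofInjective hi).toEquiv] at h
  intro h1
  rw [Nat.coprime_comm, Nat.coprime_two_left] at h1
  exact (Nat.not_odd_iff_even.2 h) h1

/-- `PSL_n(q)`, `n ≥ 5` -/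
theorem lpo_psl {G : Type u} [Group G] [Finite G] [Fintype F] {n : ℕ} (hF : Odd (Fintype.card F)) (hn : 5 ≤ n)
    (e : G ≃* Matrix.ProjectiveSpecialLinearGroup (Fin n) F)
    (hG : InGp 2 (Matrix.SpecialLinearGroup (Fin 4) F)) : LpoExists 2 G (InGp 2) := by
  obtain ⟨m, rfl⟩ : ∃ m, n = 4 + m := ⟨n - 4, by omega⟩
  have : Nonempty (Fin m) := ⟨⟨0, by omega⟩⟩
  have : Fact (Nat.Prime 2) := ⟨Nat.prime_two⟩
  have h2 := neg_one_ne_one_of_odd hF
  obtain ⟨π, hs, hk⟩ := exists_pi (finSumFinEquiv (m := 4) (n := m)) e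
  let x : Matrix.SpecialLinearGroup (Fin 4 ⊕ Fin m) F :=
    ⟨fromBlocks ((-1 : F) • 1) 0 0 ((1 : F) • 1), by
      rw [det_fromBlocks_zero₂₁, det_smul, det_smul, det_one, det_one]
      simp only [_root_.Fintype.card_fin, _root_.mul_one, _root_.one_pow]
      norm_num⟩
  have hx : x.1 = fromBlocks ((-1 : F) • (1 : Matrix (Fin 4) (Fin 4) F)) 0 0 ((1 : F) • (1 : Matrix (Fin m) (Fin m) F)) :=
    rfl
  have hm : (-1 : F) ≠ 0 := neg_ne_zero.2 one_ne_zero
  have hinj := blk_injective (ι := Fin 4) (κ := Fin m) hk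
  have hcov := cover hs hk hm one_ne_zero h2 hx
  have hord := orderOf_eq_two (ι := Fin 4) (κ := Fin m) hk h2 hx (by norm_num)
  have eK := rangeEquiv hinj
  have hcomp := hcov.isComponentOf (SignalizersComponents.Components.isQuasisimple_of_mulEquiv eK hG.1)
  refine lpoExists_of_comp_self hord ?_ hcomp (even_range hinj ?_) (hG.2.1.of_equiv (CpQuot.Congr.ce eK))
    (fun _ _ _ _ f => (inGp_iff f 2).1) ((inGp_iff eK 2).1 hG)
  · rw [if_pos rfl]
    refine prank_codRestrict _ _ hinj (fun h => ?_) (prank_four h2)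
    rw [mem_centralizer_singleton_iff]
    exact hcov.comm h
  · have : Nontrivial (Fin 4) := inferInstance
    exact SignalizersComponents.SLQuasisimple.even_card (SignalizersComponents.SLQuasisimple.two_ne_zero_of_odd hF)

/-- `a⁴ = -1` -/
theorem exists_pow_four [Fintype F] (h8 : Fintype.card F % 8 = 1) : ∃ a : F, a ^ 4 = -1 := by
  obtain ⟨g, hg⟩ := IsCyclic.exists_ofOrder_eq_natCard (α := Fˣ)
  have hc : Nat.card Fˣ = Fintype.card F - 1 := by rw [Nat.card_units, Nat.card_eq_fintype_card]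
  have hF : 1 < Fintype.card F := Fintype.one_lt_card
  obtain ⟨k, hk⟩ : ∃ k, Fintype.card F - 1 = 8 * k := ⟨(Fintype.card F - 1) / 8, by omega⟩
  have hk0 : 0 < k := by omega
  rw [hc, hk] at hg
  refine ⟨((g ^ k : Fˣ) : F), ?_⟩
  have h1 : ((g ^ k) ^ 4 : Fˣ) ≠ 1 := by
    rw [← pow_mul]
    intro h
    have := orderOf_dvd_of_pow_eq_one h
    rw [hg] at this
    have := Nat.le_of_dvd (by omega) this
    omega
  have h2 : (((g ^ k) ^ 4 : Fˣ)) ^ 2 = 1 := by
    have h := pow_orderOf_eq_one g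
    rw [hg] at h
    rw [← pow_mul, ← pow_mul, ← h]
    congr 1
    ring
  have h3 : (((g ^ k : Fˣ) : F) ^ 4) ^ 2 = 1 := by
    have := congrArg Units.val h2
    simpa only [_root_.Units.val_pow_eq_pow_val, _root_.sq_eq_one_iff, _root_.Units.val_one] using this
  rcases (sq_eq_one_iff.1 h3) with h | h
  · exfalso
    apply h1
    apply Units.ext
    simpa using h
  · exact h

/-- `O(SL₃(q)) = Z(SL₃(q))` -/
theorem pPrimeCore_three [Fintype F] (hF : Odd (Fintype.card F)) :
    pPrimeCore 2 (Matrix.SpecialLinearGroup (Fin 3) F) = center (Matrix.SpecialLinearGroup (Fin 3) F) := by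
  have : Fact (Nat.Prime 2) := ⟨Nat.prime_two⟩
  apply le_antisymm
  · rcases SignalizersComponents.Components.quasisimple_normal
      (SignalizersComponents.SLQuasisimple.isQuasisimple_of_three_le (F := F) (ι := Fin 3) (by simp))
      _ (Lib.Cores.pPrimeCore_normal (G := Matrix.SpecialLinearGroup (Fin 3) F) 2) with h | h
    · exfalso
      have h1 := Lib.Cores.pPrimeCore_coprime (G := Matrix.SpecialLinearGroup (Fin 3) F) 2
      rw [h, Nat.card_congr Subgroup.topEquiv.toEquiv, Nat.coprime_comm, Nat.coprime_two_left] at h1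
      exact (Nat.not_odd_iff_even.2 (SignalizersComponents.SLQuasisimple.even_card
        (SignalizersComponents.SLQuasisimple.two_ne_zero_of_odd hF))) h1
    · exact h
  · apply Lib.Cores.le_pPrimeCore inferInstance
    rw [Nat.coprime_comm, Nat.coprime_two_left, ← Nat.not_even_iff_odd]
    intro h
    obtain ⟨⟨z, hz⟩, hz2⟩ := exists_prime_orderOf_dvd_card' 2 h.two_dvd
    obtain ⟨r, hr, hrz⟩ := Matrix.SpecialLinearGroup.mem_center_iff.1 hz
    have h3 : z ^ 3 = 1 := by
      apply Subtype.ext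
      change ((z : Matrix (Fin 3) (Fin 3) F)) ^ 3 = 1
      rw [← hrz, ← map_pow]
      simp only [Fintype.card_fin] at hr
      rw [hr, map_one]
    rw [Subgroup.orderOf_mk] at hz2
    have := orderOf_dvd_of_pow_eq_one h3
    rw [hz2] at this
    omega

/-- `PSL₄(q)`, `q ≡ 1 (mod 8)` -/
theorem lpo_psl4 {G : Type u} [Group G] [Finite G] [Fintype F] (hF : Odd (Fintype.card F))
    (h8 : Fintype.card F % 8 = 1) (e : G ≃* Matrix.ProjectiveSpecialLinearGroup (Fin 4) F)
    (hG : InGp 2 (Matrix.ProjectiveSpecialLinearGroup (Fin 3) F)) : LpoExists 2 G (InGp 2) := by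
  have : Nonempty (Fin 1) := ⟨0⟩
  have : Fact (Nat.Prime 2) := ⟨Nat.prime_two⟩
  have h2 := neg_one_ne_one_of_odd hF
  obtain ⟨a, ha⟩ := exists_pow_four h8
  have ha0 : a ≠ 0 := by
    rintro rfl
    rw [zero_pow (by norm_num)] at ha
    exact neg_ne_zero.2 one_ne_zero ha.symm
  have haa : a ≠ -a := by
    intro h
    apply h2
    have h' : a * (-1) = a * 1 := by rw [mul_one, mul_neg, mul_one]; exact h.symm
    exact mul_left_cancel₀ ha0 h'
  obtain ⟨π, hs, hk⟩ := exists_pi (F := F) (finSumFinEquiv (m := 3) (n := 1)) e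
  let x : Matrix.SpecialLinearGroup (Fin 3 ⊕ Fin 1) F :=
    ⟨fromBlocks (a • 1) 0 0 ((-a : F) • 1), by
      rw [det_fromBlocks_zero₂₁, det_smul, det_smul, det_one, det_one, Fintype.card_fin, Fintype.card_fin]
      linear_combination -ha⟩
  have hx : x.1 = fromBlocks (a • (1 : Matrix (Fin 3) (Fin 3) F)) 0 0 ((-a : F) • (1 : Matrix (Fin 1) (Fin 1) F)) :=
    rfl
  have hinj := blk_injective (ι := Fin 3) (κ := Fin 1) hk
  have hcov := cover hs hk ha0 (neg_ne_zero.2 ha0) haa hx
  have hord := orderOf_eq_two (ι := Fin 3) (κ := Fin 1) hk haa hx (by ring)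
  have eK := rangeEquiv hinj
  have hcomp := hcov.isComponentOf (SignalizersComponents.Components.isQuasisimple_of_mulEquiv eK
    (SignalizersComponents.SLQuasisimple.isQuasisimple_of_three_le (by simp)))
  refine lpoExists_of_comp hord ?_ hcomp (even_range hinj ?_) (fun _ _ _ _ f => (inGp_iff f 2).1) ?_
  · rw [if_pos rfl]
    have p1 : ∏ i, (![-1, -1, 1] : Fin 3 → F) i = 1 := by simp [Fin.prod_univ_three]
    have p2 : ∏ i, (![1, -1, -1] : Fin 3 → F) i = 1 := by simp [Fin.prod_univ_three]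
    have hsq : π x ^ 2 = 1 := by rw [← hord, pow_orderOf_eq_one]
    have hne : ∀ A : Matrix.SpecialLinearGroup (Fin 3) F, π x ≠ π (blk A) := by
      intro A hA
      obtain ⟨r, -, hr⟩ := (eq_iff hk _ _).1 hA
      rw [hx, coe_blk, fromBlocks_smul, fromBlocks_inj] at hr
      obtain ⟨h3, -, -, h4⟩ := hr
      have h5 := congrFun (congrFun h4 0) 0
      rw [Matrix.smul_apply, Matrix.smul_apply, one_apply_eq, smul_eq_mul, smul_eq_mul, mul_one, mul_one] at h5
      subst h5
      have h6 : (A : Matrix (Fin 3) (Fin 3) F) = (-1 : F) • 1 := by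
        have h7 := congrArg (fun M => (-a)⁻¹ • M) h3
        simp only [smul_smul] at h7
        rw [inv_mul_cancel₀ (neg_ne_zero.2 ha0), one_smul] at h7
        rw [← h7]
        congr 1
        field_simp
      have h8 := A.2
      rw [h6, det_smul, det_one, Fintype.card_fin] at h8
      have h9 : (-1 : F) = (-1) ^ 3 * 1 := by ring
      exact h2 (h9.trans h8)
    have hmem : ∀ A : Matrix.SpecialLinearGroup (Fin 3) F, π (blk A) ∈ centralizer ({π x} : Set G) := fun A => by
      rw [mem_centralizer_singleton_iff]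
      exact hcov.comm A
    have hb : ∀ A B : Matrix.SpecialLinearGroup (Fin 3) F, A ≠ B → π (blk A) ≠ π (blk B) := fun A B h h' =>
      h (hinj h')
    refine prank_three (x := π (blk (dg _ p1))) (y := π (blk (dg _ p2))) (z := π x) ?_ ?_ hsq ?_ ?_ ?_ ?_ ?_ ?_ ?_ ?_ ?_ ?_
      (hmem _) (hmem _) ?_
    · rw [← map_pow, ← map_pow, dg_sq _ _ (fun i => by (revert i; simp only [_root_.Fin.forall_fin_succ, Fin.isValue, _root_.Matrix.cons_val_zero, _root_.mul_neg, _root_.mul_one, _root_.neg_neg, _root_.Matrix.cons_val_succ, _root_.Matrix.cons_val_fin_one, _root_.implies_true, _root_.and_self])), map_one, map_one]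
    · rw [← map_pow, ← map_pow, dg_sq _ _ (fun i => by (revert i; simp only [_root_.Fin.forall_fin_succ, Fin.isValue, _root_.Matrix.cons_val_zero, _root_.mul_one, _root_.Matrix.cons_val_succ, _root_.mul_neg, _root_.neg_neg, _root_.Matrix.cons_val_fin_one, _root_.implies_true, _root_.and_self])), map_one, map_one]
    · have := hb (dg _ p1) 1 (dg_ne_one _ p1 0 h2)
      rwa [map_one, map_one] at this
    · have := hb (dg _ p2) 1 (dg_ne_one _ p2 1 h2)
      rwa [map_one, map_one] at this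
    · exact hb _ _ (dg_ne _ _ p1 p2 0 h2)
    · have := hne 1
      rwa [map_one, map_one] at this
    · exact hne _
    · exact hne _
    · rw [← map_mul, ← map_mul]
      exact hne _
    · rw [← map_mul, ← map_mul, ← map_mul, ← map_mul, dg_comm]
    · exact hcov.comm _
    · exact hcov.comm _
    · rw [mem_centralizer_singleton_iff]
  · exact SignalizersComponents.SLQuasisimple.even_card (SignalizersComponents.SLQuasisimple.two_ne_zero_of_odd hF)
  · have e1 : (Matrix.SpecialLinearGroup (Fin 3) F ⧸ pPrimeCore 2 (Matrix.SpecialLinearGroup (Fin 3) F)) ≃*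
        (↥(π.comp blk).range ⧸ pPrimeCore 2 ↥(π.comp blk).range) :=
      QuotientGroup.congr _ _ eK (Lib.Cores.map_equiv_pPrimeCore eK 2)
    refine (inGp_iff e1 2).1 ((inGp_iff (QuotientGroup.quotientMulEquivOfEq (pPrimeCore_three hF)) 2).2 ?_)
    exact hG

end

end Cfsg.Agent.OddTab.BlockSL

end

-- merged: Cfsg.Agent.OddTab.BlockSp
section

/-!
# The block `Sp_{2k}` of `Sp_{2(k+l)}` and the involution `-1 ⊕ 1` (helper35)

* `emb` : the embedding (as in `OddHalf.NI3.K.Sp`);
* `cover` : `Cover π emb (-1 ⊕ 1)`;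
* `lpo_psp` : `PSp_{2m}(q)`, `m ≥ 3`, `q` odd, has a `G₂`-group in `L₂°` if `Sp₄(q)` is one.
-/

set_option autoImplicit false

namespace Cfsg.Agent.OddTab.BlockSp

open Matrix Subgroup Cfsg
open Cfsg.Agent.OddHalf.NI.Blocks (negOne)
open Cfsg.Agent.OddHalf.NI.FrameSp (bd neg neg_coe center_cases)

universe u

section Embed

variable {F : Type} [Field F] {k l : ℕ}

/-- the reindexing -/
def sg (k l : ℕ) : (Fin k ⊕ Fin k) ⊕ (Fin l ⊕ Fin l) ≃ Fin (k + l) ⊕ Fin (k + l) :=
  (Equiv.sumSumSumComm (Fin k) (Fin k) (Fin l) (Fin l)).trans (Equiv.sumCongr finSumFinEquiv finSumFinEquiv)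

theorem J_sub : (J (Fin (k + l)) F).submatrix (sg k l) (sg k l) = fromBlocks (J (Fin k) F) 0 0 (J (Fin l) F) := by
  ext p q
  rcases p with (p | p) | (p | p) <;> rcases q with (q | q) | (q | q) <;>
    simp [sg, J, Matrix.one_apply, -finSumFinEquiv_apply_left, -finSumFinEquiv_apply_right]

/-- the block matrix `A ⊕ 1` -/
def big (A : Matrix (Fin k ⊕ Fin k) (Fin k ⊕ Fin k) F) : Matrix (Fin (k + l) ⊕ Fin (k + l)) (Fin (k + l) ⊕ Fin (k + l)) F :=
  (fromBlocks A 0 0 (1 : Matrix (Fin l ⊕ Fin l) (Fin l ⊕ Fin l) F)).submatrix (sg k l).symm (sg k l).symm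

theorem big_sub (A : Matrix (Fin k ⊕ Fin k) (Fin k ⊕ Fin k) F) :
    (big (l := l) A).submatrix (sg k l) (sg k l) = fromBlocks A 0 0 1 := by
  rw [big, submatrix_submatrix, Equiv.symm_comp_self, submatrix_id_id]

omit [Field F] in
theorem sub_inj {A B : Matrix (Fin (k + l) ⊕ Fin (k + l)) (Fin (k + l) ⊕ Fin (k + l)) F}
    (h : A.submatrix (sg k l) (sg k l) = B.submatrix (sg k l) (sg k l)) : A = B := by
  have h1 := congrArg (fun M => M.submatrix (sg k l).symm (sg k l).symm) h
  simpa only [submatrix_submatrix, Equiv.self_comp_symm, submatrix_id_id] using h1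

theorem sub_mul (A B : Matrix (Fin (k + l) ⊕ Fin (k + l)) (Fin (k + l) ⊕ Fin (k + l)) F) :
    (A * B).submatrix (sg k l) (sg k l) = A.submatrix (sg k l) (sg k l) * B.submatrix (sg k l) (sg k l) := by
  rw [submatrix_mul_equiv]

theorem mem_iff' (A : Matrix (Fin (k + l) ⊕ Fin (k + l)) (Fin (k + l) ⊕ Fin (k + l)) F) :
    A ∈ symplecticGroup (Fin (k + l)) F ↔ A.submatrix (sg k l) (sg k l) *
      fromBlocks (J (Fin k) F) 0 0 (J (Fin l) F) * (A.submatrix (sg k l) (sg k l))ᵀ =
        fromBlocks (J (Fin k) F) 0 0 (J (Fin l) F) := by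
  rw [SymplecticGroup.mem_iff, ← J_sub, transpose_submatrix, ← sub_mul, ← sub_mul]
  exact ⟨fun h => by rw [h], fun h => sub_inj h⟩

/-- `Sp_{2k} → Sp_{2(k+l)}` -/
def emb (k l : ℕ) (F : Type) [Field F] : symplecticGroup (Fin k) F →* symplecticGroup (Fin (k + l)) F where
  toFun A := ⟨big (A : Matrix (Fin k ⊕ Fin k) (Fin k ⊕ Fin k) F), by
    rw [mem_iff', big_sub]
    have h := SymplecticGroup.mem_iff.mp A.2
    simp [fromBlocks_multiply, fromBlocks_transpose, h]⟩
  map_one' := by
    apply Subtype.ext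
    apply sub_inj
    change (big (l := l) 1).submatrix (sg k l) (sg k l) = (1 : Matrix _ _ F).submatrix (sg k l) (sg k l)
    rw [big_sub, submatrix_one_equiv, fromBlocks_one]
  map_mul' A B := by
    apply Subtype.ext
    apply sub_inj
    change (big (l := l) ((A : Matrix _ _ F) * (B : Matrix _ _ F))).submatrix (sg k l) (sg k l) =
      (big (l := l) (A : Matrix _ _ F) * big (B : Matrix _ _ F)).submatrix (sg k l) (sg k l)
    rw [big_sub, sub_mul, big_sub, big_sub, fromBlocks_multiply]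
    simp only [_root_.Matrix.mul_zero, _root_.add_zero, _root_.Matrix.mul_one, _root_.Matrix.zero_mul, _root_.mul_one, _root_.zero_add]

theorem emb_coe (A : symplecticGroup (Fin k) F) :
    (emb k l F A : Matrix (Fin (k + l) ⊕ Fin (k + l)) (Fin (k + l) ⊕ Fin (k + l)) F).submatrix (sg k l) (sg k l) =
      fromBlocks (A : Matrix (Fin k ⊕ Fin k) (Fin k ⊕ Fin k) F) 0 0 1 := big_sub _

theorem two_mul_eq_zero' {α β : Type*} (h2 : (2 : F) ≠ 0) {M : Matrix α β F} (h : M = -M) : M = 0 := by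
  ext i j
  have := congrFun (congrFun h i) j
  rw [Matrix.neg_apply] at this
  have h3 : 2 * M i j = 0 := by linear_combination this
  exact (mul_eq_zero.mp h3).resolve_left h2

/-- the centralizer of `-1 ⊕ 1` normalises `Sp_{2k} ⊕ 1` -/
theorem norm_emb (h2 : (2 : F) ≠ 0) (g : symplecticGroup (Fin (k + l)) F)
    (hg : g * emb k l F (neg k F) = emb k l F (neg k F) * g) (a : symplecticGroup (Fin k) F) :
    ∃ b, g * emb k l F a * g⁻¹ = emb k l F b := by
  set G := (g : Matrix (Fin (k + l) ⊕ Fin (k + l)) (Fin (k + l) ⊕ Fin (k + l)) F).submatrix (sg k l) (sg k l) with hG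
  obtain ⟨A, B, C, D, hABCD⟩ : ∃ A B C D, G = fromBlocks A B C D :=
    ⟨_, _, _, _, (fromBlocks_toBlocks G).symm⟩
  have h1 : G * fromBlocks (-1) 0 0 1 = fromBlocks (-1) 0 0 1 * G := by
    have := congrArg (fun X : symplecticGroup (Fin (k + l)) F =>
      (X : Matrix (Fin (k + l) ⊕ Fin (k + l)) (Fin (k + l) ⊕ Fin (k + l)) F).submatrix (sg k l) (sg k l)) hg
    simp only [Submonoid.coe_mul, sub_mul, emb_coe, neg_coe] at this
    exact this
  rw [hABCD, fromBlocks_multiply, fromBlocks_multiply] at h1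
  simp only [Matrix.mul_zero, Matrix.mul_one, Matrix.zero_mul, Matrix.one_mul, add_zero, zero_add, Matrix.mul_neg,
    Matrix.neg_mul] at h1
  rw [fromBlocks_inj] at h1
  obtain ⟨-, hB, hC, -⟩ := h1
  have hB0 : B = 0 := two_mul_eq_zero' h2 hB
  have hC0 : C = 0 := two_mul_eq_zero' h2 hC.symm
  subst hB0 hC0
  have hmem := (mem_iff' _).mp g.2
  rw [← hG, hABCD, fromBlocks_transpose, fromBlocks_multiply, fromBlocks_multiply] at hmem
  simp only [Matrix.mul_zero, Matrix.zero_mul, add_zero, zero_add, transpose_zero] at hmem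
  rw [fromBlocks_inj] at hmem
  have hA : A ∈ symplecticGroup (Fin k) F := SymplecticGroup.mem_iff.mpr hmem.1
  refine ⟨(⟨A, hA⟩ : symplecticGroup (Fin k) F) * a * (⟨A, hA⟩ : symplecticGroup (Fin k) F)⁻¹, ?_⟩
  have h3 : emb k l F ((⟨A, hA⟩ : symplecticGroup (Fin k) F) * a * (⟨A, hA⟩ : symplecticGroup (Fin k) F)⁻¹) * g =
      g * emb k l F a := by
    apply Subtype.ext
    apply sub_inj
    rw [Submonoid.coe_mul, Submonoid.coe_mul, sub_mul, sub_mul, emb_coe, emb_coe, ← hG, hABCD, fromBlocks_multiply,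
      fromBlocks_multiply]
    simp only [Matrix.mul_zero, Matrix.zero_mul, add_zero, zero_add, Matrix.mul_one, Matrix.one_mul]
    congr 1
    have h4 := congrArg (fun A : symplecticGroup (Fin k) F => (A : Matrix (Fin k ⊕ Fin k) (Fin k ⊕ Fin k) F))
      (inv_mul_cancel_right ((⟨A, hA⟩ : symplecticGroup (Fin k) F) * a) (⟨A, hA⟩ : symplecticGroup (Fin k) F))
    exact h4
  rw [← h3, mul_inv_cancel_right]

/-- an element inverting `-1 ⊕ 1` modulo `±1` moves `Sp_{2k} ⊕ 1` to a subgroup commuting with it -/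
theorem swap_emb (h2 : (2 : F) ≠ 0) (g : symplecticGroup (Fin (k + l)) F)
    (hg : g * emb k l F (neg k F) = neg (k + l) F * (emb k l F (neg k F) * g)) (a b : symplecticGroup (Fin k) F) :
    g * emb k l F a * g⁻¹ * emb k l F b = emb k l F b * (g * emb k l F a * g⁻¹) := by
  suffices hh : (g⁻¹ * emb k l F b * g) * emb k l F a = emb k l F a * (g⁻¹ * emb k l F b * g) by
    calc g * emb k l F a * g⁻¹ * emb k l F b = g * (emb k l F a * (g⁻¹ * emb k l F b * g)) * g⁻¹ := by group
      _ = g * ((g⁻¹ * emb k l F b * g) * emb k l F a) * g⁻¹ := by rw [hh]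
      _ = _ := by group
  set G := (g : Matrix (Fin (k + l) ⊕ Fin (k + l)) (Fin (k + l) ⊕ Fin (k + l)) F).submatrix (sg k l) (sg k l) with hG
  set G' := ((g⁻¹ : symplecticGroup (Fin (k + l)) F) :
    Matrix (Fin (k + l) ⊕ Fin (k + l)) (Fin (k + l) ⊕ Fin (k + l)) F).submatrix (sg k l) (sg k l) with hG'
  obtain ⟨A, B, C, D, hABCD⟩ : ∃ A B C D, G = fromBlocks A B C D :=
    ⟨_, _, _, _, (fromBlocks_toBlocks G).symm⟩
  obtain ⟨A', B', C', D', hABCD'⟩ : ∃ A B C D, G' = fromBlocks A B C D :=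
    ⟨_, _, _, _, (fromBlocks_toBlocks G').symm⟩
  have h1 : G * fromBlocks (-1) 0 0 1 = -(fromBlocks (-1) 0 0 1 * G) := by
    have := congrArg (fun X : symplecticGroup (Fin (k + l)) F =>
      (X : Matrix (Fin (k + l) ⊕ Fin (k + l)) (Fin (k + l) ⊕ Fin (k + l)) F).submatrix (sg k l) (sg k l)) hg
    simp only [Submonoid.coe_mul, sub_mul, emb_coe, neg_coe] at this
    rw [← hG] at this
    rw [this]
    have h3 : ((-1 : Matrix (Fin (k + l) ⊕ Fin (k + l)) (Fin (k + l) ⊕ Fin (k + l)) F)).submatrix (sg k l) (sg k l) = -1 := by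
      rw [submatrix_neg, Pi.neg_apply, Pi.neg_apply, submatrix_one_equiv]
    rw [h3, neg_mul, one_mul]
  rw [hABCD, fromBlocks_multiply, fromBlocks_multiply, fromBlocks_neg] at h1
  simp only [Matrix.mul_zero, Matrix.mul_one, Matrix.zero_mul, Matrix.one_mul, add_zero, zero_add, Matrix.mul_neg,
    Matrix.neg_mul, neg_neg] at h1
  rw [fromBlocks_inj] at h1
  obtain ⟨hA, -, -, hD⟩ := h1
  have hA0 : A = 0 := two_mul_eq_zero' h2 hA.symm
  have hD0 : D = 0 := two_mul_eq_zero' h2 hD
  subst hA0 hD0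
  have hgg : G * G' = 1 := by
    rw [hG, hG', ← sub_mul, ← Submonoid.coe_mul, mul_inv_cancel, Submonoid.coe_one, submatrix_one_equiv]
  have hgg' : G' * G = 1 := by
    rw [hG, hG', ← sub_mul, ← Submonoid.coe_mul, inv_mul_cancel, Submonoid.coe_one, submatrix_one_equiv]
  rw [hABCD, hABCD', fromBlocks_multiply, ← fromBlocks_one, fromBlocks_inj] at hgg hgg'
  simp only [Matrix.mul_zero, Matrix.zero_mul, add_zero, zero_add] at hgg hgg'
  obtain ⟨g11, g12, g21, g22⟩ := hgg
  obtain ⟨k11, k12, k21, k22⟩ := hgg'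
  have hD' : D' = 0 := by
    have h3 := congrArg (C' * ·) g12
    simp only [← Matrix.mul_assoc, Matrix.mul_zero] at h3
    rw [k22, Matrix.one_mul] at h3
    exact h3
  have hA' : A' = 0 := by
    have h3 := congrArg (B' * ·) g21
    simp only [← Matrix.mul_assoc, Matrix.mul_zero] at h3
    rw [k11, Matrix.one_mul] at h3
    exact h3
  subst hA' hD'
  apply Subtype.ext
  apply sub_inj
  simp only [Submonoid.coe_mul, sub_mul, emb_coe]
  rw [← hG, ← hG', hABCD, hABCD']
  simp only [fromBlocks_multiply, Matrix.mul_zero, Matrix.zero_mul, add_zero, zero_add, Matrix.mul_one, Matrix.one_mul]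
  rw [k11, Matrix.one_mul, Matrix.mul_one]

theorem emb_scalar {a : symplecticGroup (Fin k) F} (hl : 1 ≤ l)
    (h : emb k l F a ∈ center (symplecticGroup (Fin (k + l)) F)) : a = 1 := by
  rcases (LieClassical.SympCenter.mem_center_iff (k + l) _).mp h with ⟨r, hr⟩
  have h1 : fromBlocks (a : Matrix (Fin k ⊕ Fin k) (Fin k ⊕ Fin k) F) 0 0 (1 : Matrix (Fin l ⊕ Fin l) (Fin l ⊕ Fin l) F) =
      fromBlocks (r • 1) 0 0 (r • 1) := by
    rw [← emb_coe (l := l) a, hr, submatrix_smul, Pi.smul_apply, Pi.smul_apply, submatrix_one_equiv, ← fromBlocks_one,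
      fromBlocks_smul, smul_zero, smul_zero]
  rw [fromBlocks_inj] at h1
  obtain ⟨h2, -, -, h3⟩ := h1
  have h4 := congrFun (congrFun h3 (Sum.inl ⟨0, hl⟩)) (Sum.inl ⟨0, hl⟩)
  rw [Matrix.smul_apply, one_apply_eq, smul_eq_mul, mul_one] at h4
  apply Subtype.ext
  rw [h2, ← h4, one_smul]
  rfl

theorem neg_mem_center (m : ℕ) : neg m F ∈ center (symplecticGroup (Fin m) F) := by
  rw [LieClassical.SympCenter.mem_center_iff]
  exact ⟨-1, by rw [neg_coe, neg_one_smul]⟩

theorem neg_sq (m : ℕ) : neg m F ^ 2 = 1 := by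
  apply Subtype.ext
  rw [pow_two, Submonoid.coe_mul, neg_coe, neg_mul_neg, one_mul]
  rfl

theorem neg_ne_one {m : ℕ} (hm : 1 ≤ m) (h2 : (2 : F) ≠ 0) : neg m F ≠ 1 := by
  intro h
  have h1 := congrArg (fun A : symplecticGroup (Fin m) F => (A : Matrix (Fin m ⊕ Fin m) (Fin m ⊕ Fin m) F)) h
  simp only [neg_coe] at h1
  have h3 := congrFun (congrFun h1 (Sum.inl ⟨0, hm⟩)) (Sum.inl ⟨0, hm⟩)
  rw [Matrix.neg_apply, one_apply_eq] at h3
  have h4 : (-1 : F) = 1 := h3.trans (one_apply_eq (Sum.inl (⟨0, hm⟩ : Fin m)))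
  apply h2
  linear_combination -h4

end Embed

section

variable {F : Type} [Field F] {k l : ℕ} {G : Type u} [Group G] {π : symplecticGroup (Fin (k + l)) F →* G}
  (hs : Function.Surjective π) (hk : π.ker = center (symplecticGroup (Fin (k + l)) F)) (h2 : (2 : F) ≠ 0)
include hk

theorem pi_cases (hkl : 1 ≤ k + l) {A B : symplecticGroup (Fin (k + l)) F} (h : π A = π B) :
    A = B ∨ A = neg (k + l) F * B := by
  have h1 : A * B⁻¹ ∈ π.ker := by rw [MonoidHom.mem_ker, map_mul, map_inv, h, mul_inv_cancel]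
  rw [hk] at h1
  rcases center_cases hkl h1 with h3 | h3
  · left
    exact mul_inv_eq_one.1 h3
  · right
    rw [← h3, inv_mul_cancel_right]

theorem pi_neg : π (neg (k + l) F) = 1 := by
  have : neg (k + l) F ∈ π.ker := by rw [hk]; exact neg_mem_center _
  exact this

include hs h2 in
theorem cover (hkl : 1 ≤ k + l) : Cover π (emb k l F) (emb k l F (neg k F)) := by
  refine ⟨hs, ?_, ?_⟩
  · intro h
    rw [← map_mul, ← map_mul, ← map_mul, ← map_mul]
    congr 2
    exact (mem_center_iff.1 (neg_mem_center k) h)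
  · intro g hg
    rcases pi_cases hk hkl hg with h | h
    · left
      intro a
      obtain ⟨b, hb⟩ := norm_emb h2 g h a
      exact ⟨b, by rw [hb]⟩
    · right
      intro a b
      rw [swap_emb h2 g h a b]

theorem emb_injective (hl : 1 ≤ l) : Function.Injective (π.comp (emb k l F)) := by
  rw [injective_iff_map_eq_one]
  intro a ha
  have h1 : emb k l F a ∈ π.ker := ha
  rw [hk] at h1
  exact emb_scalar hl h1

end

/-- signs -/
def sgn {m : ℕ} (F : Type) [Field F] (s : Fin m → Bool) : symplecticGroup (Fin m) F :=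
  bd m F fun i => if s i then negOne F else 1

theorem sgn_apply {m : ℕ} {F : Type} [Field F] (s : Fin m → Bool) (i : Fin m) :
    (sgn F s : Matrix (Fin m ⊕ Fin m) (Fin m ⊕ Fin m) F) (Sum.inl i) (Sum.inl i) = if s i then -1 else 1 := by
  rw [sgn, OddHalf.NI.FrameSp.bd_apply]
  by_cases h : s i <;> simp [OddHalf.NI.FrameSp.ix, OddHalf.NI.FrameSp.sd, h]

/-- the element of order four of `SL₂` -/
def wS (F : Type) [Field F] : Matrix.SpecialLinearGroup (Fin 2) F := ⟨!![0, 1; -1, 0], by simp [det_fin_two_of]⟩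

theorem wS_sq (F : Type) [Field F] : wS F * wS F = negOne F := by
  apply Subtype.ext
  rw [Matrix.SpecialLinearGroup.coe_mul]
  ext i j
  (revert i j; simp only [wS, Matrix.mul_apply, Fin.sum_univ_two, _root_.Fin.forall_fin_succ, _root_.Matrix.of_apply, _root_.Matrix.cons_val', _root_.Matrix.cons_val_fin_one, Fin.isValue, _root_.Matrix.cons_val_zero, _root_.Matrix.cons_val_one, _root_.Cfsg.Agent.OddHalf.NI.Blocks.coe_negOne, _root_.Matrix.neg_apply, _root_.MulZeroClass.mul_zero, _root_.mul_neg, _root_.mul_one, _root_.zero_add, _root_.neg_inj, _root_.Matrix.cons_val_succ, _root_.add_zero, _root_.IsEmpty.forall_iff, _root_.and_true, _root_.Matrix.one_apply_eq, Nat.reduceAdd, _root_.Fin.succ_zero_eq_one, _root_.ne_eq, _root_.zero_ne_one, _root_.not_false_eq_true, _root_.Matrix.one_apply_ne, _root_.neg_zero, _root_.and_self, _root_.Fin.succ_ne_zero, _root_.true_and])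

/-- `w` -/
def wD (m : ℕ) (F : Type) [Field F] : symplecticGroup (Fin m) F := bd m F fun _ => wS F

theorem wD_sq (m : ℕ) (F : Type) [Field F] : wD m F * wD m F = neg m F := by
  rw [wD, ← map_mul]
  congr 1
  funext i
  exact wS_sq F

theorem wD_apply {m : ℕ} {F : Type} [Field F] (i : Fin m) :
    (wD m F : Matrix (Fin m ⊕ Fin m) (Fin m ⊕ Fin m) F) (Sum.inl i) (Sum.inl i) = 0 := by
  rw [wD, OddHalf.NI.FrameSp.bd_apply]
  simp [OddHalf.NI.FrameSp.ix, OddHalf.NI.FrameSp.sd, wS]

theorem negOne_comm {F : Type} [Field F] (A : Matrix.SpecialLinearGroup (Fin 2) F) : negOne F * A = A * negOne F := by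
  apply Subtype.ext
  rw [Matrix.SpecialLinearGroup.coe_mul, Matrix.SpecialLinearGroup.coe_mul]
  simp

theorem negOne_mul_self {F : Type} [Field F] : negOne F * negOne F = 1 := by
  apply Subtype.ext
  rw [Matrix.SpecialLinearGroup.coe_mul]
  simp

theorem sgn_mul {m : ℕ} {F : Type} [Field F] (s t : Fin m → Bool) :
    sgn F s * sgn F t = sgn F fun i => xor (s i) (t i) := by
  rw [sgn, sgn, sgn, ← map_mul]
  congr 1
  funext i
  rw [Pi.mul_apply]
  rcases s i with _ | _ <;> rcases t i with _ | _ <;> simp [negOne_mul_self]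

theorem sgn_sq {m : ℕ} {F : Type} [Field F] (s : Fin m → Bool) : sgn F s ^ 2 = 1 := by
  rw [pow_two, sgn_mul, sgn, ← map_one (bd m F)]
  congr 1
  funext i
  simp

theorem sgn_wD {m : ℕ} {F : Type} [Field F] (s : Fin m → Bool) : sgn F s * wD m F = wD m F * sgn F s := by
  rw [sgn, wD, ← map_mul, ← map_mul]
  congr 1
  funext i
  rw [Pi.mul_apply, Pi.mul_apply]
  rcases s i with _ | _
  · simp
  · simp [negOne_comm]

theorem emb_neg {F : Type} [Field F] (k l : ℕ) : emb k l F (neg k F) = sgn F fun i => decide (i.1 < k) := by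
  apply Subtype.ext
  apply sub_inj
  rw [emb_coe, neg_coe]
  ext p q
  rw [submatrix_apply, sgn, OddHalf.NI.FrameSp.bd_apply]
  rcases p with (p | p) | (p | p) <;> rcases q with (q | q) | (q | q) <;>
    simp [sg, OddHalf.NI.FrameSp.ix, OddHalf.NI.FrameSp.sd, Matrix.one_apply, Fin.ext_iff]
  all_goals first | omega | (split_ifs <;> simp)

theorem isPGroup_center {F : Type} [Field F] {m : ℕ} (hm : 1 ≤ m) :
    IsPGroup 2 ↥(center (symplecticGroup (Fin m) F)) := by
  rintro ⟨z, hz⟩
  refine ⟨1, ?_⟩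
  apply Subtype.ext
  change z ^ (2 ^ 1) = 1
  rcases center_cases hm hz with h | h
  · rw [h, one_pow]
  · rw [h, pow_one, neg_sq]

section

variable {F : Type} [Field F] {l : ℕ} {G : Type u} [Group G] {π : symplecticGroup (Fin (2 + l)) F →* G}
  (hk : π.ker = center (symplecticGroup (Fin (2 + l)) F)) (h2 : (2 : F) ≠ 0)
include hk

/-- diagonal entries distinguish elements modulo `±1` -/
theorem pi_diag {A B : symplecticGroup (Fin (2 + l)) F} (h : π A = π B) :
    (∀ i, A.1 (Sum.inl i) (Sum.inl i) = B.1 (Sum.inl i) (Sum.inl i)) ∨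
      ∀ i, A.1 (Sum.inl i) (Sum.inl i) = -B.1 (Sum.inl i) (Sum.inl i) := by
  rcases pi_cases hk (by omega) h with h | h
  · left
    intro i
    rw [h]
  · right
    intro i
    rw [h, Submonoid.coe_mul, neg_coe, neg_mul, one_mul, Matrix.neg_apply]

include h2

theorem pi_sgn_ne {s t : Fin (2 + l) → Bool} {i j : Fin (2 + l)} (hi : s i ≠ t i) (hj : s j = t j) :
    π (sgn F s) ≠ π (sgn F t) := by
  have hne : (-1 : F) ≠ 1 := fun h => h2 (by linear_combination -h)
  intro h
  rcases pi_diag hk h with h | h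
  · have h1 := h i
    rw [sgn_apply, sgn_apply] at h1
    split_ifs at h1 with h3 h4 h4
    · exact hi (h3.trans h4.symm)
    · exact hne h1
    · exact hne h1.symm
    · exact hi ((Bool.eq_false_of_not_eq_true h3).trans (Bool.eq_false_of_not_eq_true h4).symm)
  · have h1 := h j
    rw [sgn_apply, sgn_apply, hj] at h1
    split_ifs at h1 with h3
    · exact hne (h1.trans (neg_neg 1))
    · exact hne h1.symm

omit h2 in
theorem pi_wD_ne (s : Fin (2 + l) → Bool) : π (wD _ F) ≠ π (sgn F s) := by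
  intro h
  rcases pi_diag hk h with h | h
  · have h1 := h ⟨0, by omega⟩
    rw [sgn_apply, wD_apply] at h1
    split_ifs at h1
    · exact neg_ne_zero.2 one_ne_zero h1.symm
    · exact one_ne_zero h1.symm
  · have h1 := h ⟨0, by omega⟩
    rw [sgn_apply, wD_apply] at h1
    split_ifs at h1
    · rw [neg_neg] at h1
      exact one_ne_zero h1.symm
    · exact neg_ne_zero.2 one_ne_zero h1.symm

end


/-- `PSp_{2m}(q)`, `m ≥ 3` -/
theorem lpo_psp {G : Type u} [Group G] [Finite G] {F : Type} [Field F] [Fintype F] {m : ℕ}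
    (hF : Odd (Fintype.card F)) (hm : 3 ≤ m) (e : G ≃* PSp m F) (hG : InGp 2 ↥(symplecticGroup (Fin 2) F)) :
    LpoExists 2 G (InGp 2) := by
  obtain ⟨l, rfl⟩ : ∃ l, m = 2 + l := ⟨m - 2, by omega⟩
  have : Fact (Nat.Prime 2) := ⟨Nat.prime_two⟩
  have h2 := SignalizersComponents.SLQuasisimple.two_ne_zero_of_odd hF
  let π : symplecticGroup (Fin (2 + l)) F →* G := e.symm.toMonoidHom.comp (QuotientGroup.mk' _)
  have hs : Function.Surjective π := e.symm.surjective.comp (QuotientGroup.mk'_surjective _)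
  have hk : π.ker = center (symplecticGroup (Fin (2 + l)) F) := by
    ext x
    rw [MonoidHom.mem_ker]
    change e.symm (QuotientGroup.mk' _ x) = 1 ↔ _
    rw [map_eq_one_iff _ e.symm.injective]
    exact QuotientGroup.eq_one_iff x
  have hinj := emb_injective (k := 2) hk (by omega)
  have hcov := cover (k := 2) hs hk h2 (by omega)
  have eK := rangeEquiv hinj
  have hcomp := hcov.isComponentOf (SignalizersComponents.Components.isQuasisimple_of_mulEquiv eK hG.1)
  have hx2 : π (emb 2 l F (neg 2 F)) ^ 2 = 1 := by rw [← map_pow, ← map_pow, neg_sq, map_one, map_one]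
  have hx1 : π (emb 2 l F (neg 2 F)) ≠ 1 := by
    intro h
    exact neg_ne_one one_le_two h2 ((injective_iff_map_eq_one _).1 hinj _ h)
  have hord : orderOf (π (emb 2 l F (neg 2 F))) = 2 := orderOf_eq_prime hx2 hx1
  refine lpoExists_of_comp_self hord ?_ hcomp (BlockSL.even_range hinj ?_) (hG.2.1.of_equiv (CpQuot.Congr.ce eK))
    (fun _ _ _ _ f => (inGp_iff f 2).1) ((inGp_iff eK 2).1 hG)
  · rw [if_pos rfl]
    have he := emb_neg (F := F) 2 l
    have hc : ∀ s : Fin (2 + l) → Bool, π (sgn F s) ∈ centralizer ({π (emb 2 l F (neg 2 F))} : Set G) := by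
      intro s
      rw [mem_centralizer_singleton_iff, he, ← map_mul, ← map_mul, sgn_mul, sgn_mul]
      congr 2
      funext i
      exact Bool.xor_comm _ _
    have h1s : (1 : G) = π (sgn F fun _ => false) := by
      rw [sgn, ← map_one π]
      congr 1
      rw [← map_one (bd (2 + l) F)]
      rfl
    refine prank_three (x := π (sgn F fun i => decide (i.1 < 1))) (y := π (sgn F fun i => decide (i.1 < 2)))
      (z := π (wD _ F)) ?_ ?_ ?_ ?_ ?_ ?_ ?_ (pi_wD_ne hk _) (pi_wD_ne hk _) ?_ ?_ ?_ ?_ (hc _) (hc _) ?_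
    · rw [← map_pow, sgn_sq, map_one]
    · rw [← map_pow, sgn_sq, map_one]
    · rw [pow_two, ← map_mul, wD_sq]
      exact pi_neg hk
    · rw [h1s]
      exact pi_sgn_ne hk h2 (i := ⟨0, by omega⟩) (j := ⟨2, by omega⟩) (by simp) (by simp)
    · rw [h1s]
      exact pi_sgn_ne hk h2 (i := ⟨0, by omega⟩) (j := ⟨2, by omega⟩) (by simp) (by simp)
    · exact pi_sgn_ne hk h2 (i := ⟨1, by omega⟩) (j := ⟨2, by omega⟩) (by simp) (by simp)
    · rw [h1s]
      exact pi_wD_ne hk _
    · rw [← map_mul, sgn_mul]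
      exact pi_wD_ne hk _
    · rw [← map_mul, ← map_mul, sgn_mul, sgn_mul]
      congr 2
      funext i
      exact Bool.xor_comm _ _
    · rw [← map_mul, ← map_mul, sgn_wD]
    · rw [← map_mul, ← map_mul, sgn_wD]
    · rw [mem_centralizer_singleton_iff, he, ← map_mul, ← map_mul, sgn_wD]
  · have h3 : orderOf (_root_.Cfsg.Agent.OddHalf.NI.FrameSp.neg 2 F) = 2 := orderOf_eq_prime (neg_sq 2) (neg_ne_one one_le_two h2)
    have h4 := _root_.orderOf_dvd_natCard (_root_.Cfsg.Agent.OddHalf.NI.FrameSp.neg 2 F)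
    rw [h3] at h4
    exact even_iff_two_dvd.2 h4

end Cfsg.Agent.OddTab.BlockSp

end

-- merged: Cfsg.Agent.OddTab.GpThree
section

/-!
# `SL₄(3)` and `Sp₄(3)` are `G₂`-groups (helper35)

* `not_inT_of_card` : a quasisimple group is not a `T₂`-group, by the order of its simple quotient;
* `inGp_of_exception` : an exception to the `C₂` list of suitable order is a `G₂`-group;
* `sl_four_three`, `sp_four_three`.
-/

set_option autoImplicit false

namespace Cfsg.Agent.OddTab.GpThree

open Subgroup Cfsg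
open Cfsg.Agent.SignalizersComponents.Components

/-- a quasisimple simple group has trivial centre -/
theorem center_eq_bot_of_simple {K : Type*} [Group K] (hq : IsQuasisimple K) (hs : IsSimpleGroup K) :
    center K = ⊥ := by
  rcases hs.eq_bot_or_eq_top_of_normal (center K) inferInstance with h | h
  · exact h
  · exfalso
    have h1 : IsSimpleGroup (K ⧸ center K) := hq.2
    have h2 : Subsingleton (K ⧸ center K) := by
      rw [h]
      exact QuotientGroup.subsingleton_quotient_top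
    exact not_subsingleton (K ⧸ center K) h2

theorem card_eq_of_simple {K : Type*} [Group K] (hq : IsQuasisimple K) (hs : IsSimpleGroup K) :
    Nat.card (K ⧸ center K) = Nat.card K := by
  rw [center_eq_bot_of_simple hq hs]
  exact Nat.card_congr QuotientGroup.quotientBot.toEquiv

/-- `K` is not a `T₂`-group, by the order of `K / Z(K)`. -/
theorem not_inT_of_card {K : Type*} [Group K] [Finite K] {n : ℕ} (hn : Nat.card (K ⧸ center K) = n) (h12 : 12 < n) (a : ℕ)
    (ha : 1 ≤ a) (h1 : a * (a ^ 2 - 1) < 2 * n) (h2 : 2 * n < (a + 1) * ((a + 1) ^ 2 - 1)) (hq : n ≠ 20160)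
    (hA : ∀ m : ℕ, 7 ≤ m → m ≤ 11 → 2 * n ≠ m.factorial) : ¬ InT 2 K := by
  rintro ⟨hK, -, -, -, h⟩
  have key : ∀ (F : Type) [Field F] [Fintype F], Odd (Fintype.card F) →
      2 * n ≠ 2 * Nat.card (Matrix.ProjectiveSpecialLinearGroup (Fin 2) F) := by
    intro F _ _ ho h3
    rw [SevenCases.two_mul_card_PSL_two F ho] at h3
    exact CTwoTab.ne_of_between a ha h1 h2 _ h3
  have halt : ∀ (L : Type _) [Group L] (m : ℕ), 7 ≤ m → m ≤ 11 → Nat.card L = n →
      ¬ Nonempty (L ≃* alternatingGroup (Fin m)) := by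
    rintro L _ m hm hm' hL ⟨e⟩
    have : Nontrivial (Fin m) := Fin.nontrivial_iff_two_le.2 (by omega)
    have h4 := two_mul_nat_card_alternatingGroup (α := Fin m)
    rw [← Nat.card_congr e.toEquiv, hL, Nat.card_perm, Nat.card_fin] at h4
    exact hA m hm hm' h4
  rcases h with ⟨-, h⟩ | ⟨h, -⟩ | ⟨h, -⟩ | ⟨h, -⟩
  · rcases h with ⟨F, _, _, ho, -, ⟨e⟩⟩ | h | ⟨F, _, _, ho, ⟨e⟩⟩ | ⟨-, m, hm, hm', he⟩ | ⟨⟨F, _, _, hF, ⟨e⟩⟩, -⟩
    · by_cases h4 : 4 ≤ Nat.card F
      · have hs : IsSimpleGroup (Matrix.ProjectiveSpecialLinearGroup (Fin 2) F) :=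
          (SignalizersComponents.SLQuasisimple.isQuasisimple_two h4).2
        have hs' : IsSimpleGroup K := (CpQuot.Congr.isSimple_iff e).2 hs
        apply key F ho
        rw [← Nat.card_congr e.toEquiv, ← hn, card_eq_of_simple hK hs']
      · have h5 : Fintype.card F ≤ 3 := by
          rw [Nat.card_eq_fintype_card] at h4
          omega
        have h6 := SevenCases.two_mul_card_PSL_two F ho
        rw [← Nat.card_congr e.toEquiv] at h6
        have h7 : n ≤ Nat.card K := by
          rw [← hn]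
          exact Nat.card_le_card_of_surjective _ (QuotientGroup.mk'_surjective (center K))
        have h8 : Fintype.card F * (Fintype.card F ^ 2 - 1) ≤ 3 * (3 ^ 2 - 1) :=
          Nat.mul_le_mul h5 (Nat.sub_le_sub_right (Nat.pow_le_pow_left h5 2) 1)
        omega
    · obtain ⟨e⟩ := h
      have hs : IsSimpleGroup K := (CpQuot.Congr.isSimple_iff e).2 (alternatingGroup.isSimpleGroup (by simp))
      exact halt K 7 le_rfl (by norm_num) ((card_eq_of_simple hK hs).symm.trans hn) ⟨e⟩
    · apply key F ho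
      rw [← hn, Nat.card_congr (CpQuot.Congr.cq e).toEquiv]
    · exact halt _ m hm hm' hn he
    · apply hq
      rw [← hn, Nat.card_congr e.toEquiv, CTwoTab.card_PSL_three F hF]
  · exact absurd h (by norm_num)
  · exact absurd h (by norm_num)
  · exact absurd rfl h

/-- An exception to the `C₂` list is a `G₂`-group, by the order of `K / Z(K)`. -/
theorem inGp_of_exception {K : Type*} [Group K] [Finite K] (hq : IsQuasisimple K) (hz : IsPGroup 2 ↥(center K))
    (hk : IsKnownSimple' (K ⧸ center K)) (he : IsCpException 2 K) {n : ℕ} (hn : Nat.card (K ⧸ center K) = n)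
    (h12 : 12 < n) (a : ℕ) (ha : 1 ≤ a) (h1 : a * (a ^ 2 - 1) < 2 * n)
    (h2 : 2 * n < (a + 1) * ((a + 1) ^ 2 - 1)) (hq' : n ≠ 20160)
    (hA : ∀ m : ℕ, 7 ≤ m → m ≤ 11 → 2 * n ≠ m.factorial) : InGp 2 K :=
  ⟨hq, hz, hk, fun h => h.2.2.2 he, not_inT_of_card hn h12 a ha h1 h2 hq' hA⟩

theorem card_psl_four_three {F : Type} [Field F] [Fintype F] (hF : Fintype.card F = 3) :
    Nat.card (Matrix.ProjectiveSpecialLinearGroup (Fin 4) F) = 6065280 := by
  have h := S0243.result (F := F) hF 4 (by norm_num)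
  rw [Fin.prod_univ_four] at h
  norm_num only [_root_.Fin.coe_ofNat_eq_mod, _root_.pow_zero, _root_.Nat.add_one_sub_one, _root_.pow_one] at h
  omega

/-- the centre of `SL₄(F)` is a 2-group -/
theorem isPGroup_center_SL_four (F : Type*) [Field F] : IsPGroup 2 ↥(center (Matrix.SpecialLinearGroup (Fin 4) F)) := by
  rintro ⟨z, hz⟩
  refine ⟨2, ?_⟩
  obtain ⟨r, hr, hrz⟩ := Matrix.SpecialLinearGroup.mem_center_iff.1 hz
  apply Subtype.ext
  apply Subtype.ext
  change ((z : Matrix (Fin 4) (Fin 4) F)) ^ (2 ^ 2) = 1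
  rw [← hrz, ← map_pow]
  simp only [Fintype.card_fin] at hr
  rw [show 2 ^ 2 = 4 by norm_num, hr, map_one]

/-- `SL₄(3)` is a `G₂`-group -/
theorem sl_four_three {F : Type} [Field F] [Fintype F] (hF : Fintype.card F = 3) :
    InGp 2 (Matrix.SpecialLinearGroup (Fin 4) F) := by
  refine inGp_of_exception (n := 6065280) (SignalizersComponents.SLQuasisimple.isQuasisimple_of_three_le (by simp))
    (isPGroup_center_SL_four F) ?_ ?_ (card_psl_four_three hF) (by norm_num) 229 (by norm_num) (by norm_num)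
    (by norm_num) (by norm_num) ?_
  · exact Or.inr (Or.inr (Or.inl ⟨F, inferInstance, inferInstance, 4, by norm_num, by norm_num, ⟨MulEquiv.refl _⟩⟩))
  · exact Or.inl ⟨rfl, Or.inr (Or.inr (Or.inl ⟨F, inferInstance, inferInstance, hF, Or.inl ⟨MulEquiv.refl _⟩⟩))⟩
  · intro m h1 h2
    interval_cases m <;> decide

/-- `Sp₄(q)` is quasisimple, `q` odd -/
theorem isQuasisimple_sp {F : Type} [Field F] [Fintype F] (hF : 3 ≤ Fintype.card F) :
    IsQuasisimple ↥(Matrix.symplecticGroup (Fin 2) F) :=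
  ⟨⟨S0269.result 2 (Or.inr (Or.inl ⟨rfl, hF⟩))⟩, S0270.result 2 le_rfl (fun _ => hF)⟩

/-- `Sp₄(3)` is a `G₂`-group -/
theorem sp_four_three {F : Type} [Field F] [Fintype F] (hF : Fintype.card F = 3) :
    InGp 2 ↥(Matrix.symplecticGroup (Fin 2) F) := by
  refine inGp_of_exception (n := 25920) (isQuasisimple_sp hF.ge) (BlockSp.isPGroup_center one_le_two) ?_ ?_
    (SmallSimple.PSLFacts.card_psp_two_three hF) (by norm_num) 37 (by norm_num) (by norm_num)
    (by norm_num) (by norm_num) ?_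
  · exact Or.inr (Or.inr (Or.inr (Or.inl ⟨F, inferInstance, inferInstance, 2, le_rfl, fun _ => hF.ge,
      ⟨MulEquiv.refl _⟩⟩)))
  · exact Or.inl ⟨rfl, Or.inr (Or.inr (Or.inl ⟨F, inferInstance, inferInstance, hF, Or.inr ⟨MulEquiv.refl _⟩⟩))⟩
  · intro m h1 h2
    interval_cases m <;> decide

end Cfsg.Agent.OddTab.GpThree

end

private theorem dce_84e0ffbf98cf : _root_.True := by
  try have : _root_.True := by simp only [_root_.Cfsg.Agent.OddTab.BlockSp.wS.eq_1]
  try have : _root_.True := by simp only [_root_.Cfsg.Agent.OddTab.BlockSp.big.eq_1]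
  try have : _root_.True := by simp only [_root_.Cfsg.Agent.OddTab.BlockSp.sg.eq_1]
  try have : _root_.True := by simp only [_root_.Cfsg.Agent.OddTab.BlockSp.sgn.eq_1]
  try have : _root_.True := by simp only [_root_.Cfsg.Agent.OddTab.BlockSp.wD.eq_1]
  exact _root_.True.intro
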