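import Mathlib
import Cfsg.Prelude.Def_EvenType
import Cfsg.Agent.SignalizersComponents.Components
import Cfsg.Agent.FastGrp
import Cfsg.Agent.Prune
set_option linter.all false
prune_inst 0x7f00000000000000000000000000000000000000000000000000000000000000000000000000000000000000000000000000000000000000000000000000000000000000000000000000000000000000003fffffffffffffffffffffffffffbeffbdffffffff
open scoped Cfsg.Agent.FastGrp

/-!
# Centralizers of involutions of `L₂(q)`, `q` odd, are solvable (helper35)

* `isSolvable_centralizer` : the centralizer of a noncentral element modulo the centre of `SL₂(F)` is solvable;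
* `not_isComponentOf` : no component in the centralizer of an involution of `G ≃* PSL₂(F)`.
-/

set_option autoImplicit false

namespace Cfsg.Agent.OddTab.LTwo

open Subgroup Cfsg Matrix

/-- matrices commuting with a nonscalar `2 × 2` matrix commute -/
theorem comm_of_comm {F : Type*} [Field F] {t g h : Matrix (Fin 2) (Fin 2) F} (ht : ∀ r : F, t ≠ scalar (Fin 2) r)
    (hg : g * t = t * g) (hh : h * t = t * h) : g * h = h * g := by
  have e1 := congrFun (congrFun hg 0) 0
  have e2 := congrFun (congrFun hg 0) 1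
  have e3 := congrFun (congrFun hg 1) 0
  have f1 := congrFun (congrFun hh 0) 0
  have f2 := congrFun (congrFun hh 0) 1
  have f3 := congrFun (congrFun hh 1) 0
  simp only [Matrix.mul_apply, Fin.sum_univ_two] at e1 e2 e3 f1 f2 f3
  have hne : t 0 1 ≠ 0 ∨ t 1 0 ≠ 0 ∨ t 0 0 - t 1 1 ≠ 0 := by
    by_contra hc
    push Not at hc
    obtain ⟨h1, h2, h3⟩ := hc
    apply ht (t 0 0)
    ext i j
    fin_cases i <;> fin_cases j
    · simp
    · simpa using h1
    · simpa using h2
    · simp only [scalar_apply, Fin.mk_one, diagonal_apply_eq]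
      exact (sub_eq_zero.1 h3).symm
  have E1 : g 0 1 * t 1 0 = t 0 1 * g 1 0 := by linear_combination e1
  have E2 : (g 0 0 - g 1 1) * t 0 1 = g 0 1 * (t 0 0 - t 1 1) := by linear_combination e2
  have E3 : (g 0 0 - g 1 1) * t 1 0 = g 1 0 * (t 0 0 - t 1 1) := by linear_combination -e3
  have F1 : h 0 1 * t 1 0 = t 0 1 * h 1 0 := by linear_combination f1
  have F2 : (h 0 0 - h 1 1) * t 0 1 = h 0 1 * (t 0 0 - t 1 1) := by linear_combination f2
  have F3 : (h 0 0 - h 1 1) * t 1 0 = h 1 0 * (t 0 0 - t 1 1) := by linear_combination -f3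
  have key : g 0 1 * h 1 0 = h 0 1 * g 1 0 ∧ (g 0 0 - g 1 1) * h 0 1 = (h 0 0 - h 1 1) * g 0 1 ∧
      (g 0 0 - g 1 1) * h 1 0 = (h 0 0 - h 1 1) * g 1 0 := by
    rcases hne with hb | hb | hb
    · have K1 : g 0 1 * h 1 0 = h 0 1 * g 1 0 :=
        mul_left_cancel₀ hb (by linear_combination h 0 1 * E1 - g 0 1 * F1)
      refine ⟨K1, mul_left_cancel₀ hb ?_, mul_left_cancel₀ hb ?_⟩
      · linear_combination h 0 1 * E2 - g 0 1 * F2
      · linear_combination (h 1 0) * E2 - (g 1 0) * F2 + (t 0 0 - t 1 1) * K1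
    · have K1 : g 0 1 * h 1 0 = h 0 1 * g 1 0 :=
        mul_left_cancel₀ hb (by linear_combination h 1 0 * E1 - g 1 0 * F1)
      refine ⟨K1, mul_left_cancel₀ hb ?_, mul_left_cancel₀ hb ?_⟩
      · linear_combination h 0 1 * E3 - g 0 1 * F3 - (t 0 0 - t 1 1) * K1
      · linear_combination (h 1 0) * E3 - (g 1 0) * F3
    · refine ⟨mul_left_cancel₀ hb ?_, mul_left_cancel₀ hb ?_, mul_left_cancel₀ hb ?_⟩
      · linear_combination -h 1 0 * E2 + h 0 1 * E3 - (g 0 0 - g 1 1) * F1
      · linear_combination -(g 0 0 - g 1 1) * F2 + (h 0 0 - h 1 1) * E2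
      · linear_combination -(g 0 0 - g 1 1) * F3 + (h 0 0 - h 1 1) * E3
  obtain ⟨k1, k2, k3⟩ := key
  ext i j
  fin_cases i <;> fin_cases j <;> simp only [Matrix.mul_apply, Fin.sum_univ_two, Fin.zero_eta, Fin.mk_one]
  · linear_combination k1
  · linear_combination k2
  · linear_combination -k3
  · linear_combination -k1

/-- If the centralizer of `t` is commutative, the centralizer of `t` modulo the centre is solvable. -/
theorem isSolvable_of_comm {X G : Type*} [Group X] [Group G] {π : X →* G} (hs : Function.Surjective π)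
    (hk : π.ker = center X) {t : X} (hc : ∀ g h : X, g * t = t * g → h * t = t * h → g * h = h * g) :
    Group.IsSolvable ↥(centralizer ({π t} : Set G)) := by
  let E : Subgroup X := (centralizer ({π t} : Set G)).comap π
  have hE : ∀ g : X, g ∈ E ↔ g * t * g⁻¹ * t⁻¹ ∈ center X := by
    intro g
    rw [mem_comap, mem_centralizer_singleton_iff, ← hk, MonoidHom.mem_ker]
    simp only [map_mul, map_inv]
    constructor
    · intro h
      rw [h, mul_inv_cancel_right, mul_inv_cancel]
    · intro h
      have h1 := mul_inv_eq_one.1 h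
      rw [mul_inv_eq_iff_eq_mul] at h1
      exact h1
  -- the map to the centre
  let f : ↥E →* ↥(center X) :=
    { toFun := fun g => ⟨g.1 * t * g.1⁻¹ * t⁻¹, (hE g.1).1 g.2⟩
      map_one' := Subtype.ext (by
        show (1 : X) * t * (1 : X)⁻¹ * t⁻¹ = 1
        group)
      map_mul' := by
        rintro ⟨g, hg⟩ ⟨h, hh⟩
        apply Subtype.ext
        show g * h * t * (g * h)⁻¹ * t⁻¹ = g * t * g⁻¹ * t⁻¹ * (h * t * h⁻¹ * t⁻¹)
        have h1 := mem_center_iff.1 ((hE h).1 hh)
        have h3 : g * h * t * (g * h)⁻¹ * t⁻¹ = g * (h * t * h⁻¹ * t⁻¹) * t * g⁻¹ * t⁻¹ := by group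
        rw [h3]
        generalize h * t * h⁻¹ * t⁻¹ = z at h1
        rw [h1 g]
        have h4 := h1 (g * t * g⁻¹ * t⁻¹)
        rw [h4]
        group }
  have hker : ∀ g h : ↥f.ker, g * h = h * g := by
    rintro ⟨⟨g, hg⟩, hg'⟩ ⟨⟨h, hh⟩, hh'⟩
    apply Subtype.ext
    apply Subtype.ext
    have hg1 : g * t * g⁻¹ * t⁻¹ = 1 := congrArg Subtype.val (MonoidHom.mem_ker.1 hg')
    have hh1 : h * t * h⁻¹ * t⁻¹ = 1 := congrArg Subtype.val (MonoidHom.mem_ker.1 hh')
    have hg2 : g * t = t * g := by rw [mul_inv_eq_one, mul_inv_eq_iff_eq_mul] at hg1; exact hg1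
    have hh2 : h * t = t * h := by rw [mul_inv_eq_one, mul_inv_eq_iff_eq_mul] at hh1; exact hh1
    exact hc g h hg2 hh2
  have i1 : Group.IsSolvable ↥f.ker := Group.isSolvable_of_comm hker
  have i2 : Group.IsSolvable ↥(center X) := Group.isSolvable_of_comm fun a b =>
    Subtype.ext (mem_center_iff.1 b.2 a.1)
  have i3 : Group.IsSolvable ↥E := Group.isSolvable_of_ker_le_range f.ker.subtype f (by rw [Subgroup.range_subtype])
  have h5 : centralizer ({π t} : Set G) = E.map π := (map_comap_eq_self_of_surjective hs _).symm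
  rw [h5]
  exact Group.isSolvable_of_surjective (π.subgroupMap_surjective E)

/-- the centralizer of a noncentral element of `SL₂(F)` modulo the centre -/
theorem isSolvable_centralizer {F : Type*} [Field F] {G : Type*} [Group G]
    {π : Matrix.SpecialLinearGroup (Fin 2) F →* G} (hs : Function.Surjective π)
    (hk : π.ker = center (Matrix.SpecialLinearGroup (Fin 2) F)) {t : Matrix.SpecialLinearGroup (Fin 2) F}
    (ht : t ∉ center (Matrix.SpecialLinearGroup (Fin 2) F)) :
    Group.IsSolvable ↥(centralizer ({π t} : Set G)) := by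
  refine isSolvable_of_comm hs hk fun g h hg hh => ?_
  apply Subtype.ext
  refine comm_of_comm (t := t.1) ?_ (congrArg Subtype.val hg) (congrArg Subtype.val hh)
  intro r hr
  apply ht
  rw [Matrix.SpecialLinearGroup.mem_center_iff]
  refine ⟨r, ?_, hr.symm⟩
  have h4 := t.2
  rw [hr, scalar_apply, det_diagonal, Finset.prod_const, Finset.card_univ] at h4
  exact h4

/-- A subgroup of a solvable group is not quasisimple. -/
theorem not_quasisimple_of_solvable {K : Type*} [Group K] [Group.IsSolvable K] : ¬ IsQuasisimple K := by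
  rintro ⟨⟨h1⟩, h2⟩
  have : Nontrivial (K ⧸ center K) := h2.toNontrivial
  have h3 : Nontrivial K := (QuotientGroup.mk'_surjective (center K)).nontrivial
  exact (Group.IsSolvable.commutator_lt_top_of_nontrivial K).ne h1

/-- **No component** in the centralizer of an involution of `PSL₂(F)`. -/
theorem not_isComponentOf {F : Type*} [Field F] {G : Type*} [Group G]
    (e : G ≃* Matrix.ProjectiveSpecialLinearGroup (Fin 2) F) {x : G} (hx : x ≠ 1) {J : Subgroup G} :
    ¬ IsComponentOf J (centralizer ({x} : Set G)) := by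
  let π : Matrix.SpecialLinearGroup (Fin 2) F →* G := e.symm.toMonoidHom.comp (QuotientGroup.mk' _)
  have hs : Function.Surjective π := e.symm.surjective.comp (QuotientGroup.mk'_surjective _)
  have hk : π.ker = center (Matrix.SpecialLinearGroup (Fin 2) F) := by
    ext x
    rw [MonoidHom.mem_ker]
    change e.symm (QuotientGroup.mk' _ x) = 1 ↔ _
    rw [map_eq_one_iff _ e.symm.injective]
    exact QuotientGroup.eq_one_iff x
  obtain ⟨t, rfl⟩ := hs x
  have ht : t ∉ center (Matrix.SpecialLinearGroup (Fin 2) F) := by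
    rw [← hk, MonoidHom.mem_ker]
    exact hx
  have h1 := isSolvable_centralizer hs hk ht
  rintro ⟨hle, -, hq⟩
  exact not_quasisimple_of_solvable hq

end Cfsg.Agent.OddTab.LTwo
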